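/-
Extending an invariant irreducible character from a normal subgroup.

* `Intertwines`, `exists_intertwines`, `intertwines_unique` : Schur/intertwiner calculus for an
  invariant irreducible representation `ρu : N →* (End V)ˣ`.
* `extends_of_hom` : a homomorphism `G →* (End V)ˣ` extending `ρu` gives an irreducible character.
* `hom_of_cyclic` : extension when `G ⧸ N` is cyclic.
* `hom_of_local_extensions` : extension when there are extensions to subgroups of coprime indices
  (transfer argument on the factor set).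
-/
import Cfsg.Agent.Lib.Char.Orth
import Cfsg.Agent.Lib.CharApp.Schur

set_option autoImplicit false

namespace Cfsg.Agent.CharExtend

open Cfsg

variable {G : Type*} [Group G] {N : Subgroup G} [hN : N.Normal] {n : ℕ}

/-- Units of the endomorphism ring of `Fin n → ℂ`. -/
abbrev EU (n : ℕ) := (Module.End ℂ (Fin n → ℂ))ˣ

/-- Scalar units. -/
noncomputable def sc (n : ℕ) : ℂˣ →* EU n :=
  Units.map ((algebraMap ℂ (Module.End ℂ (Fin n → ℂ))).toMonoidHom)

lemma sc_val (c : ℂˣ) : ((sc n c : EU n) : Module.End ℂ (Fin n → ℂ)) = (c : ℂ) • 1 :=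
  Algebra.algebraMap_eq_smul_one _

lemma sc_comm (c : ℂˣ) (T : EU n) : sc n c * T = T * sc n c := by
  ext1
  simp [sc_val]

lemma sc_injective [NeZero n] : Function.Injective (sc n) := by
  intro a b h
  have h' := congrArg (fun u : EU n => LinearMap.trace ℂ (Fin n → ℂ) u.val) h
  simp only [sc_val, map_smul, LinearMap.trace_one, Module.finrank_fin_fun, smul_eq_mul] at h'
  exact Units.ext (mul_right_cancel₀ (Nat.cast_ne_zero.mpr (NeZero.ne n)) h')

/-- `T` conjugates `ρu` to its translate by `g`. -/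
def Intertwines (ρu : N →* EU n) (g : G) (T : EU n) : Prop :=
  ∀ x : N, T * ρu x = ρu ⟨g * x * g⁻¹, hN.conj_mem x x.2 g⟩ * T

lemma intertwines_apply (ρu : N →* EU n) (x : N) : Intertwines ρu (x : G) (ρu x) := by
  intro y
  rw [← map_mul, ← map_mul]
  congr 1
  ext
  simp

lemma intertwines_one (ρu : N →* EU n) : Intertwines ρu (1 : G) 1 := by
  intro y; simp

lemma Intertwines.mul {ρu : N →* EU n} {g h : G} {S T : EU n} (hS : Intertwines ρu g S)
    (hT : Intertwines ρu h T) : Intertwines ρu (g * h) (S * T) := by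
  intro y
  rw [mul_assoc, hT y, ← mul_assoc, hS, mul_assoc]
  congr 2
  ext; simp [mul_assoc]

lemma Intertwines.sc_mul {ρu : N →* EU n} {g : G} {T : EU n} (hT : Intertwines ρu g T) (c : ℂˣ) :
    Intertwines ρu g (sc n c * T) := by
  intro y
  rw [mul_assoc, hT y, ← mul_assoc, ← mul_assoc, sc_comm]

lemma Intertwines.inv {ρu : N →* EU n} {g : G} {T : EU n} (hT : Intertwines ρu g T) :
    Intertwines ρu g⁻¹ T⁻¹ := by
  intro y
  have h := hT ⟨g⁻¹ * y * g⁻¹⁻¹, hN.conj_mem y y.2 g⁻¹⟩
  rw [show (⟨g * ((⟨g⁻¹ * y * g⁻¹⁻¹, hN.conj_mem y y.2 g⁻¹⟩ : N) : G) * g⁻¹,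
    hN.conj_mem _ (Subtype.mem _) g⟩ : N) = y by ext; simp [mul_assoc]] at h
  rw [inv_mul_eq_iff_eq_mul, ← mul_assoc, h, mul_inv_cancel_right]

/-- Schur: an intertwiner is unique up to a scalar. -/
lemma intertwines_unique (ρ : Representation ℂ N (Fin n → ℂ)) [ρ.IsIrreducible] {g : G} {S T : EU n}
    (hS : Intertwines ρ.toHomUnits g S) (hT : Intertwines ρ.toHomUnits g T) :
    ∃ c : ℂˣ, S = sc n c * T := by
  have hc : ∀ x : N, (T⁻¹ * S) * ρ.toHomUnits x = ρ.toHomUnits x * (T⁻¹ * S) := by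
    intro x
    have h1 : ρ.toHomUnits ⟨g * x * g⁻¹, hN.conj_mem x x.2 g⟩ = T * ρ.toHomUnits x * T⁻¹ := by
      rw [hT x, mul_inv_cancel_right]
    rw [mul_assoc, hS x, h1]; group
  obtain ⟨a, ha⟩ := CharApp.exists_scalar_of_commute ρ ((T⁻¹ * S : EU n) : Module.End ℂ (Fin n → ℂ))
    (fun x => congrArg Units.val (hc x))
  have ha0 : a ≠ 0 := by
    rintro rfl
    have : Nontrivial (Fin n → ℂ) := CharApp.nontrivial_of_irr ρ
    exact (T⁻¹ * S : EU n).ne_zero (by rw [ha, zero_smul])
  refine ⟨Units.mk0 a ha0, ?_⟩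
  rw [sc_comm, ← inv_mul_eq_iff_eq_mul]
  exact Units.ext (by rw [sc_val]; exact ha)

omit hN in
/-- A homomorphism extending `ρ` gives an irreducible character extending the character of `ρ`. -/
lemma extends_of_hom (ρ : Representation ℂ N (Fin n → ℂ)) [ρ.IsIrreducible] (R : G →* EU n)
    (hR : ∀ x : N, R (x : G) = ρ.toHomUnits x) :
    ∃ χ : G → ℂ, IsIrrCharacter G χ ∧ ∀ x : N, χ x = ρ.character x := by
  let σ : Representation ℂ G (Fin n → ℂ) := (Units.coeHom _).comp R
  have hσ : ∀ x : N, σ (x : G) = ρ x := fun x => by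
    show ((R (x : G) : EU n) : Module.End ℂ (Fin n → ℂ)) = ρ x
    rw [hR]; rfl
  refine ⟨σ.character, ⟨n, σ, ?_, rfl⟩, fun x => by simp [Representation.character, hσ]⟩
  have : Nontrivial (Fin n → ℂ) := CharApp.nontrivial_of_irr ρ
  refine CharApp.isIrreducible_of_forall_invariant σ fun W hW => ?_
  exact CharApp.eq_bot_or_top_of_invariant ρ W fun x v hv => by rw [← hσ x]; exact hW x v hv

/-- Invariant irreducible representations have intertwiners for every element. -/
lemma exists_intertwines [Finite G] (ρ : Representation ℂ N (Fin n → ℂ))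
    (hinv : ∀ (g : G) (x : N), ρ.character ⟨g * x * g⁻¹, hN.conj_mem x x.2 g⟩ = ρ.character x)
    (g : G) : ∃ T : EU n, Intertwines ρ.toHomUnits g T := by
  let ρg : Representation ℂ N (Fin n → ℂ) := ρ.comp
    { toFun := fun x => ⟨g * x * g⁻¹, hN.conj_mem x x.2 g⟩
      map_one' := by ext; simp
      map_mul' := fun x y => by ext; simp [mul_assoc] }
  obtain ⟨e⟩ := Char.equiv_of_character_eq ρ ρg (funext fun x => (hinv g x).symm)
  refine ⟨⟨e.toLinearEquiv.toLinearMap, e.toLinearEquiv.symm.toLinearMap,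
    LinearMap.ext fun v => e.toLinearEquiv.apply_symm_apply v,
    LinearMap.ext fun v => e.toLinearEquiv.symm_apply_apply v⟩, fun x => Units.ext ?_⟩
  exact e.toIntertwiningMap.isIntertwining' x

/-- Cyclic quotient. -/
theorem hom_of_cyclic [Finite G] (hcyc : IsCyclic (G ⧸ N)) (ρ : Representation ℂ N (Fin n → ℂ))
    [ρ.IsIrreducible]
    (hinv : ∀ (g : G) (x : N), ρ.character ⟨g * x * g⁻¹, hN.conj_mem x x.2 g⟩ = ρ.character x) :
    ∃ R : G →* EU n, ∀ x : N, R (x : G) = ρ.toHomUnits x := by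
  obtain ⟨q, hq⟩ := hcyc.exists_generator
  obtain ⟨g, rfl⟩ := QuotientGroup.mk_surjective q
  obtain ⟨T, hT⟩ := exists_intertwines ρ hinv g
  set m := orderOf (g : G ⧸ N) with hm
  have hmpos : 0 < m := orderOf_pos _
  have hgm : g ^ m ∈ N := by
    rw [← QuotientGroup.eq_one_iff, QuotientGroup.mk_pow, pow_orderOf_eq_one]
  have hTpow : ∀ i : ℕ, Intertwines ρ.toHomUnits (g ^ i) (T ^ i) := by
    intro i
    induction i with
    | zero => simpa using intertwines_one ρ.toHomUnits
    | succ i ih => rw [pow_succ, pow_succ]; exact ih.mul hT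
  obtain ⟨c, hc⟩ := intertwines_unique ρ (hTpow m) (intertwines_apply ρ.toHomUnits ⟨g ^ m, hgm⟩)
  obtain ⟨d, hd⟩ := IsAlgClosed.exists_pow_nat_eq ((c⁻¹ : ℂˣ) : ℂ) hmpos
  have hd0 : d ≠ 0 := by
    rintro rfl
    rw [zero_pow hmpos.ne'] at hd
    exact (c⁻¹).ne_zero hd.symm
  set T' := sc n (Units.mk0 d hd0) * T with hT'def
  have hT' : Intertwines ρ.toHomUnits g T' := hT.sc_mul _
  have hT'm : T' ^ m = ρ.toHomUnits ⟨g ^ m, hgm⟩ := by
    rw [hT'def, Commute.mul_pow (sc_comm _ _), ← map_pow,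
      show (Units.mk0 d hd0) ^ m = c⁻¹ from Units.ext (by simpa using hd), hc, ← mul_assoc, ← map_mul,
      inv_mul_cancel, map_one, one_mul]
  let φ : Multiplicative ℤ →* MulAut N := zpowersHom (MulAut N) (MulAut.conjNormal g)
  let π : N ⋊[φ] Multiplicative ℤ →* G := SemidirectProduct.lift N.subtype (zpowersHom G g)
    (fun j => by
      ext x
      simp only [φ, MonoidHom.comp_apply, MulEquiv.coe_toMonoidHom, zpowersHom_apply]
      rw [← map_zpow]
      rfl)
  have hT'z : ∀ (j : ℤ), Intertwines ρ.toHomUnits (g ^ j) (T' ^ j) := by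
    intro j
    induction j using Int.induction_on with
    | zero => simpa using intertwines_one ρ.toHomUnits
    | succ i ih => rw [zpow_add_one, zpow_add_one]; exact ih.mul hT'
    | pred i ih => rw [zpow_sub_one, zpow_sub_one]; exact ih.mul hT'.inv
  let Φ : N ⋊[φ] Multiplicative ℤ →* EU n := SemidirectProduct.lift ρ.toHomUnits (zpowersHom (EU n) T')
    (fun j => by
      apply MonoidHom.ext
      intro x
      simp only [φ, MonoidHom.comp_apply, MulEquiv.coe_toMonoidHom, zpowersHom_apply]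
      rw [← map_zpow, MulAut.conj_apply, eq_mul_inv_iff_mul_eq, hT'z j.toAdd x]
      congr 2
      )
  have hπ : Function.Surjective π := by
    intro y
    obtain ⟨j, hj⟩ := Subgroup.mem_zpowers_iff.mp (hq (y : G ⧸ N))
    have hy : y * (g ^ j)⁻¹ ∈ N := by
      rw [← QuotientGroup.eq_one_iff, QuotientGroup.mk_mul, QuotientGroup.mk_inv, QuotientGroup.mk_zpow,
        hj, mul_inv_cancel]
    exact ⟨⟨⟨_, hy⟩, Multiplicative.ofAdd j⟩, by simp [π, SemidirectProduct.lift]⟩
  have hker : π.ker ≤ Φ.ker := by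
    rintro ⟨x, j⟩ hx
    rw [MonoidHom.mem_ker] at hx ⊢
    change (x : G) * g ^ j.toAdd = 1 at hx
    show ρ.toHomUnits x * T' ^ j.toAdd = 1
    have hmem : g ^ j.toAdd ∈ N := by
      rw [eq_inv_of_mul_eq_one_right hx]; exact inv_mem x.2
    rw [← QuotientGroup.eq_one_iff, QuotientGroup.mk_zpow, ← orderOf_dvd_iff_zpow_eq_one, ← hm] at hmem
    obtain ⟨i, hi⟩ := hmem
    rw [hi, zpow_mul, zpow_natCast, hT'm, ← map_zpow, ← map_mul, ← map_one ρ.toHomUnits]
    congr 1
    ext
    rw [Subgroup.coe_mul, Subgroup.coe_zpow, Subgroup.coe_one]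
    show (x : G) * (g ^ m) ^ i = 1
    rw [← zpow_natCast, ← zpow_mul, ← hi, hx]
  refine ⟨π.liftOfSurjective hπ ⟨Φ, hker⟩, fun x => ?_⟩
  rw [show (x : G) = π ⟨x, 1⟩ by simp [π, SemidirectProduct.lift]]
  rw [MonoidHom.liftOfRightInverse_comp_apply]
  simp [Φ, SemidirectProduct.lift]

/-- An abelian-coefficient factor set killed by subgroups of coprime index is a coboundary. -/
theorem factorSet_coboundary [Finite G] (N : Subgroup G) [hN' : N.Normal] {A : Type*} [CommGroup A] (α : G → G → A)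
    (h1 : α 1 1 = 1)
    (hcoc : ∀ g h k : G, α g h * α (g * h) k = α g (h * k) * α h k)
    (hleft : ∀ x ∈ N, ∀ g h : G, α (x * g) h = α g h)
    (hright : ∀ x ∈ N, ∀ g h : G, α g (x * h) = α g h)
    (hP : ∀ p : ℕ, p.Prime → ∃ (P : Subgroup G) (c : G → A), Nat.Coprime P.index p ∧
      (∀ x ∈ N, ∀ g : G, c (x * g) = c g) ∧
      ∀ x ∈ P, ∀ g : G, α x g * (c x * c g / c (x * g)) = 1) :
    ∃ d : G → A, (∀ x ∈ N, ∀ g, d (x * g) = d g) ∧ ∀ g h, α g h = d g * d h / d (g * h) := by
  classical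
  let S : AddSubgroup ℤ :=
  { carrier := {i | ∃ d : G → A, (∀ x ∈ N, ∀ g, d (x * g) = d g) ∧
      ∀ g h, α g h ^ i = d g * d h / d (g * h)}
    zero_mem' := ⟨fun _ => 1, fun _ _ _ => rfl, fun g h => by simp⟩
    add_mem' := by
      rintro i j ⟨d, hd, hd'⟩ ⟨d', he, he'⟩
      refine ⟨fun g => d g * d' g, fun x hx g => by simp only [hd x hx g, he x hx g], fun g h => ?_⟩
      rw [zpow_add, hd', he']
      simp only [div_eq_mul_inv, mul_inv]
      ac_rfl
    neg_mem' := by
      rintro i ⟨d, hd, hd'⟩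
      refine ⟨fun g => (d g)⁻¹, fun x hx g => by simp only [hd x hx g], fun g h => ?_⟩
      rw [zpow_neg, hd']
      simp only [div_eq_mul_inv, mul_inv, inv_inv] }
  have hindex : ∀ p : ℕ, p.Prime → ∃ k : ℕ, Nat.Coprime k p ∧ (k : ℤ) ∈ S ∧ k ≠ 0 := by
    intro p hp
    obtain ⟨P, c, hcop, hcN, hcP⟩ := hP p hp
    refine ⟨P.index, hcop, ?_, Subgroup.index_ne_zero_of_finite⟩
    set β : G → G → A := fun g h => α g h * (c g * c h / c (g * h)) with hβ
    have hβcoc : ∀ g h k, β g h * β (g * h) k = β g (h * k) * β h k := by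
      intro g h k
      have := hcoc g h k
      simp only [hβ, div_eq_mul_inv, mul_assoc g h k]
      calc _ = (α g h * α (g * h) k) * (c g * c h * c k * (c (g * (h * k)))⁻¹ *
            (c (g * h) * (c (g * h))⁻¹)) := by ac_rfl
        _ = (α g (h * k) * α h k) * (c g * c h * c k * (c (g * (h * k)))⁻¹ *
            (c (h * k) * (c (h * k))⁻¹)) := by rw [this, mul_inv_cancel, mul_inv_cancel]
        _ = _ := by ac_rfl
    have hβP : ∀ x ∈ P, ∀ g h, β (x * g) h = β g h := by
      intro x hx g h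
      have := hβcoc x g h
      simp only [show β x g = 1 from hcP x hx g, show β x (g * h) = 1 from hcP x hx (g * h), one_mul] at this
      exact this
    haveI : Fintype (Quotient (QuotientGroup.rightRel P)) := Fintype.ofFinite _
    let b : Quotient (QuotientGroup.rightRel P) → G → A := fun q h =>
      Quotient.liftOn q (fun g => β g h) (fun g g' hgg' => by
        rw [← hβP (g' * g⁻¹) (QuotientGroup.rightRel_apply.mp hgg') g h, inv_mul_cancel_right])
    have hb : ∀ g h, b (Quotient.mk _ g) h = β g h := fun g h => rfl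
    let f : G → A := fun h => ∏ q, b q h
    refine ⟨fun h => f h / c h ^ P.index, fun x hx g => ?_, fun h k => ?_⟩
    · simp only [f, hcN x hx g]
      congr 1
      refine Finset.prod_congr rfl fun q _ => ?_
      induction q using Quotient.inductionOn with
      | h r =>
        simp only [hb, hβ, hright x hx, hcN x hx g]
        rw [show r * (x * g) = (r * x * r⁻¹) * (r * g) by group, hcN _ (hN'.conj_mem x hx r) _]
    · have hkey : f h * f k = f (h * k) * β h k ^ P.index := by
        let σ : Quotient (QuotientGroup.rightRel P) ≃ Quotient (QuotientGroup.rightRel P) :=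
          Quotient.congr (Equiv.mulRight h) (fun a a' => by
            simp [QuotientGroup.rightRel_apply, mul_assoc])
        have hcard : P.index = Fintype.card (Quotient (QuotientGroup.rightRel P)) := by
          rw [Subgroup.index_eq_card, ← Nat.card_eq_fintype_card]
          exact Nat.card_congr (QuotientGroup.quotientRightRelEquivQuotientLeftRel P).symm
        calc f h * f k = ∏ q, b q h * b (σ q) k := by
              rw [Finset.prod_mul_distrib]
              congr 1
              exact (Fintype.prod_equiv σ _ _ fun q => rfl).symm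
          _ = ∏ q, b q (h * k) * β h k := by
              refine Finset.prod_congr rfl fun q _ => ?_
              induction q using Quotient.inductionOn with
              | h r => exact hβcoc r h k
          _ = _ := by rw [Finset.prod_mul_distrib, Finset.prod_const, Finset.card_univ, hcard]
      have hh : β h k ^ P.index = f h * f k / f (h * k) := by
        rw [hkey, mul_div_cancel_left]
      rw [zpow_natCast]
      calc α h k ^ P.index = β h k ^ P.index / (c h * c k / c (h * k)) ^ P.index := by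
            rw [← div_pow]; simp [hβ]
        _ = _ := by
            rw [hh, div_pow, mul_pow]
            simp only [div_eq_mul_inv, mul_inv, inv_inv]
            simp only [mul_comm, mul_left_comm, mul_assoc]
  obtain ⟨a, ha⟩ := Int.subgroup_cyclic S
  rw [← AddSubgroup.zmultiples_eq_closure] at ha
  have ha1 : a.natAbs = 1 := by
    by_contra hne
    obtain ⟨q, hq, hqa⟩ := Nat.exists_prime_and_dvd hne
    obtain ⟨k, hk, hkS, -⟩ := hindex q hq
    rw [ha, Int.mem_zmultiples_iff] at hkS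
    have : q ∣ k := hqa.trans (Int.natAbs_dvd_natAbs.mpr hkS)
    exact hq.one_lt.ne' (Nat.dvd_one.mp (hk ▸ Nat.dvd_gcd this dvd_rfl))
  have h1S : (1 : ℤ) ∈ S := by
    rw [ha, Int.mem_zmultiples_iff]
    exact Int.natAbs_dvd.mp (by rw [ha1]; simp)
  obtain ⟨d, hd, hd'⟩ := h1S
  exact ⟨d, hd, fun g h => by simpa using hd' g h⟩

/-- Extensions to subgroups of coprime indices give an extension to `G`. -/
theorem hom_of_local_extensions [Finite G] (ρ : Representation ℂ N (Fin n → ℂ)) [ρ.IsIrreducible]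
    (hinv : ∀ (g : G) (x : N), ρ.character ⟨g * x * g⁻¹, hN.conj_mem x x.2 g⟩ = ρ.character x)
    (hloc : ∀ p : ℕ, p.Prime → ∃ (P : Subgroup G) (hNP : N ≤ P) (S : P →* EU n),
      Nat.Coprime P.index p ∧ ∀ x : N, S ⟨x, hNP x.2⟩ = ρ.toHomUnits x) :
    ∃ R : G →* EU n, ∀ x : N, R (x : G) = ρ.toHomUnits x := by
  classical
  haveI : NeZero n := ⟨fun h => by
    have := CharApp.finrank_pos_of_irr ρ
    rw [Module.finrank_fin_fun] at this
    omega⟩
  set ρu := ρ.toHomUnits with hρu
  choose T0 hT0 using fun g => exists_intertwines ρ hinv g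
  -- coset representatives
  let sel : G ⧸ N → G := fun q => if q = 1 then 1 else q.out
  have hsel : ∀ g : G, g * (sel g)⁻¹ ∈ N := by
    intro g
    rw [← QuotientGroup.eq_one_iff, QuotientGroup.mk_mul, QuotientGroup.mk_inv]
    by_cases h : (g : G ⧸ N) = 1
    · simp [sel, h]
    · simp only [sel, if_neg h]
      rw [QuotientGroup.out_eq', mul_inv_cancel]
  let U : G ⧸ N → EU n := fun q => if q = 1 then 1 else T0 (sel q)
  have hU : ∀ q, Intertwines ρu (sel q) (U q) := by
    intro q
    by_cases h : q = 1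
    · simp only [U, sel, if_pos h]; exact intertwines_one ρu
    · simp only [U, if_neg h]; exact hT0 _
  obtain ⟨T, hT, hTmul, hT1⟩ : ∃ T : G → EU n, (∀ g, Intertwines ρu g (T g)) ∧
      (∀ (x : N) (g : G), T ((x : G) * g) = ρu x * T g) ∧ T 1 = 1 := by
    refine ⟨fun g => ρu ⟨g * (sel g)⁻¹, hsel g⟩ * U g, fun g => ?_, fun x g => ?_, ?_⟩
    · have h := (intertwines_apply ρu ⟨g * (sel g)⁻¹, hsel g⟩).mul (hU g)
      rwa [show ((⟨g * (sel g)⁻¹, hsel g⟩ : N) : G) * sel g = g from inv_mul_cancel_right g (sel g)] at h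
    · have hq : (((x : G) * g : G) : G ⧸ N) = (g : G ⧸ N) := by
        rw [QuotientGroup.mk_mul, (QuotientGroup.eq_one_iff _).mpr x.2, one_mul]
      show ρu ⟨(x : G) * g * (sel (((x : G) * g : G) : G ⧸ N))⁻¹, hsel _⟩ * U (((x : G) * g : G) : G ⧸ N)
        = ρu x * (ρu ⟨g * (sel g)⁻¹, hsel g⟩ * U g)
      rw [← mul_assoc, ← map_mul, show (⟨(x : G) * g * (sel (((x : G) * g : G) : G ⧸ N))⁻¹, hsel _⟩ : N)
        = x * ⟨g * (sel g)⁻¹, hsel g⟩ from Subtype.ext (by simp [hq, mul_assoc]), hq]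
    · show ρu ⟨1 * (sel ((1 : G) : G ⧸ N))⁻¹, hsel 1⟩ * U ((1 : G) : G ⧸ N) = 1
      rw [show (⟨1 * (sel ((1 : G) : G ⧸ N))⁻¹, hsel 1⟩ : N) = 1 from Subtype.ext (by simp [sel]),
        map_one, one_mul]
      simp [U]
  have hTN : ∀ x : N, T x = ρu x := fun x => by simpa [hT1] using hTmul x 1
  choose α hα using fun g h => intertwines_unique ρ ((hT g).mul (hT h)) (hT (g * h))
  -- hypotheses of the coboundary lemma
  have h1 : α 1 1 = 1 := sc_injective (n := n) (by
    have := hα 1 1
    rw [mul_one, hT1, one_mul, mul_one] at this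
    rw [← this, map_one])
  have hcoc : ∀ g h k : G, α g h * α (g * h) k = α g (h * k) * α h k := fun g h k => sc_injective (n := n) (by
    have e1 : T g * T h * T k = sc n (α g h * α (g * h) k) * T (g * h * k) := by
      rw [hα, mul_assoc, hα, ← mul_assoc, ← map_mul]
    have e2 : T g * T h * T k = sc n (α g (h * k) * α h k) * T (g * h * k) := by
      rw [mul_assoc, hα h k, ← mul_assoc, ← sc_comm, mul_assoc, hα g (h * k), ← mul_assoc, ← map_mul,
        mul_comm (α g (h * k)), ← mul_assoc g h k]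
    exact mul_right_cancel (e1.symm.trans e2))
  have hleft : ∀ x ∈ N, ∀ g h : G, α (x * g) h = α g h := fun x hx g h => sc_injective (n := n) (by
    have e1 := hα (x * g) h
    rw [hTmul ⟨x, hx⟩ g, mul_assoc, hα g h, mul_assoc x g h, hTmul ⟨x, hx⟩ (g * h), ← mul_assoc,
      ← sc_comm, mul_assoc] at e1
    exact (mul_right_cancel e1).symm)
  have hright : ∀ x ∈ N, ∀ g h : G, α g (x * h) = α g h := fun x hx g h => sc_injective (n := n) (by
    have e1 := hα g (x * h)
    rw [hTmul ⟨x, hx⟩ h, ← mul_assoc, hT g ⟨x, hx⟩, mul_assoc, hα g h,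
      show g * (x * h) = (g * x * g⁻¹) * (g * h) by group,
      hTmul ⟨g * x * g⁻¹, hN.conj_mem x hx g⟩ (g * h), ← mul_assoc, ← sc_comm, mul_assoc] at e1
    exact (mul_right_cancel e1).symm)
  obtain ⟨d, hdN, hd⟩ := factorSet_coboundary N α h1 hcoc hleft hright (fun p hp => by
    obtain ⟨P, hNP, S, hcop, hS⟩ := hloc p hp
    have hSi : ∀ x : P, Intertwines ρu (x : G) (S x) := by
      intro x y
      rw [← hS y, ← hS ⟨(x : G) * y * (x : G)⁻¹, hN.conj_mem y y.2 x⟩, ← map_mul, ← map_mul]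
      congr 1
      ext; simp
    let r : G → G := fun g => if g ∈ P then 1 else (Quotient.mk (QuotientGroup.rightRel P) g).out
    have hr : ∀ g, g * (r g)⁻¹ ∈ P := by
      intro g
      simp only [r]
      split_ifs with h
      · simpa using h
      · exact QuotientGroup.rightRel_apply.mp (Quotient.mk_out (s := QuotientGroup.rightRel P) g)
    have hrP : ∀ (x : P) (g : G), r ((x : G) * g) = r g := by
      intro x g
      simp only [r, Subgroup.mul_mem_cancel_left P x.2]
      split_ifs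
      · rfl
      · exact congrArg Quotient.out (Quotient.sound (QuotientGroup.rightRel_apply.mpr (by simp)))
    obtain ⟨TP, hTP, hTPmul, hTP1⟩ : ∃ TP : G → EU n, (∀ g, Intertwines ρu g (TP g)) ∧
        (∀ (x : P) (g : G), TP ((x : G) * g) = S x * TP g) ∧ TP 1 = 1 := by
      refine ⟨fun g => S ⟨g * (r g)⁻¹, hr g⟩ * T (r g), fun g => ?_, fun x g => ?_, ?_⟩
      · have h := (hSi ⟨g * (r g)⁻¹, hr g⟩).mul (hT (r g))
        rwa [show ((⟨g * (r g)⁻¹, hr g⟩ : P) : G) * r g = g from inv_mul_cancel_right g (r g)] at h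
      · show S ⟨(x : G) * g * (r ((x : G) * g))⁻¹, hr _⟩ * T (r ((x : G) * g))
          = S x * (S ⟨g * (r g)⁻¹, hr g⟩ * T (r g))
        rw [← mul_assoc, ← map_mul, show (⟨(x : G) * g * (r ((x : G) * g))⁻¹, hr _⟩ : P)
          = x * ⟨g * (r g)⁻¹, hr g⟩ from Subtype.ext (by simp [hrP, mul_assoc]), hrP x g]
      · have h0 : r 1 = 1 := by simp [r, one_mem]
        show S ⟨1 * (r 1)⁻¹, hr 1⟩ * T (r 1) = 1
        rw [show (⟨1 * (r 1)⁻¹, hr 1⟩ : P) = 1 from Subtype.ext (by simp [h0]), map_one, one_mul, h0, hT1]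
    have hTPP : ∀ x : P, TP x = S x := by
      intro x
      simpa [hTP1] using hTPmul x 1
    choose c hc using fun g => intertwines_unique ρ (hTP g) (hT g)
    refine ⟨P, c, hcop, fun x hx g => sc_injective (n := n) ?_, fun x hx g => ?_⟩
    · have e := hc (x * g)
      rw [hTPmul ⟨x, hNP hx⟩ g, hS ⟨x, hx⟩, hc g, hTmul ⟨x, hx⟩ g, ← mul_assoc, ← sc_comm,
        mul_assoc] at e
      exact (mul_right_cancel e).symm
    · rw [mul_div_assoc', div_eq_one]
      apply sc_injective (n := n)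
      apply mul_right_cancel (b := T (x * g))
      rw [← hc, hTPmul ⟨x, hx⟩ g, ← hTPP ⟨x, hx⟩, hc, hc g, mul_comm (α x g), map_mul, map_mul,
        mul_assoc, ← hα, mul_assoc (sc n (c x)) (sc n (c g)), mul_assoc, ← mul_assoc (T x),
        ← sc_comm, mul_assoc])
  have hd1 : d 1 = 1 := by simpa [h1] using (hd 1 1).symm
  have hdx : ∀ x : N, d x = 1 := fun x => by rw [← hd1, ← hdN x x.2 1, mul_one]
  refine ⟨MonoidHom.mk' (fun g => sc n (d g)⁻¹ * T g) (fun g h => ?_), fun x => by
    simp [hTN, hdx]⟩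
  show sc n (d (g * h))⁻¹ * T (g * h) = sc n (d g)⁻¹ * T g * (sc n (d h)⁻¹ * T h)
  rw [mul_assoc, ← mul_assoc (T g), ← sc_comm, mul_assoc, hα, ← mul_assoc (sc n (d h)⁻¹), ← mul_assoc,
    ← map_mul, ← map_mul, hd]
  congr 2
  simp only [div_eq_mul_inv]
  rw [show (d g)⁻¹ * ((d h)⁻¹ * (d g * d h * (d (g * h))⁻¹))
    = ((d g)⁻¹ * d g) * ((d h)⁻¹ * d h) * (d (g * h))⁻¹ by ac_rfl, inv_mul_cancel, inv_mul_cancel,
    one_mul, one_mul]

end Cfsg.Agent.CharExtend
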