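/-
Degrees over a normal subgroup.

* `multiplicity_dvd_index` : if `θ` is invariant and occurs `e` times in `χ|N`, then `e ∣ |G : N|`
  (the multiplicity space carries an irreducible projective representation of `G ⧸ N`; Itô).
-/
import Cfsg.Agent.Lib.CharExtend.Basic
import Cfsg.Agent.Lib.CliffordChar.Basic
import Cfsg.Agent.S0169

set_option autoImplicit false

namespace Cfsg.Agent.CharExtend

open Cfsg Module

variable {G : Type*} [Group G] {N : Subgroup G} [hN : N.Normal] {d c : ℕ}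
  (ρ : Representation ℂ N (Fin d → ℂ)) (σ : Representation ℂ G (Fin c → ℂ))

/-- Elements of `G` paired with an intertwiner. -/
def pairGroup : Subgroup (G × EU d) where
  carrier := {x | Intertwines ρ.toHomUnits x.1 x.2}
  one_mem' := intertwines_one _
  mul_mem' := fun hx hy => Intertwines.mul hx hy
  inv_mem' := fun hx => Intertwines.inv hx

/-- The multiplicity space of `ρ` in `σ`. -/
abbrev MS := Representation.IntertwiningMap ρ (σ.comp N.subtype)

lemma pair_intertwines (x : pairGroup ρ) (f : MS ρ σ) (n : N) :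
    (σ x.1.1 ∘ₗ f.toLinearMap ∘ₗ ((x.1.2⁻¹ : EU d) : Module.End ℂ (Fin d → ℂ))) ∘ₗ ρ n
      = (σ.comp N.subtype) n ∘ₗ
        (σ x.1.1 ∘ₗ f.toLinearMap ∘ₗ ((x.1.2⁻¹ : EU d) : Module.End ℂ (Fin d → ℂ))) := by
  set g := x.1.1 with hg
  set m : N := ⟨g⁻¹ * n * g⁻¹⁻¹, hN.conj_mem n n.2 g⁻¹⟩ with hm
  have hT : ((x.1.2⁻¹ : EU d) : Module.End ℂ (Fin d → ℂ)) * ρ n
      = ρ m * ((x.1.2⁻¹ : EU d) : Module.End ℂ (Fin d → ℂ)) :=
    congrArg Units.val (Intertwines.inv x.2 n)
  ext v
  simp only [LinearMap.coe_comp, Function.comp_apply, MonoidHom.coe_comp, Subgroup.coe_subtype]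
  rw [← Module.End.mul_apply, hT, Module.End.mul_apply, f.toLinearMap_apply, f.isIntertwining]
  simp only [MonoidHom.coe_comp, Function.comp_apply, Subgroup.coe_subtype]
  rw [← Module.End.mul_apply, ← Module.End.mul_apply, ← map_mul, ← map_mul]
  congr 2
  simp [hm, mul_assoc]

/-- The action on the multiplicity space. -/
noncomputable def pairAct : pairGroup ρ →* Module.End ℂ (MS ρ σ) where
  toFun x :=
    { toFun := fun f => ⟨σ x.1.1 ∘ₗ f.toLinearMap ∘ₗ ((x.1.2⁻¹ : EU d) : Module.End ℂ (Fin d → ℂ)),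
        pair_intertwines ρ σ x f⟩
      map_add' := fun f f' => Representation.IntertwiningMap.ext (by
        simp [LinearMap.add_comp, LinearMap.comp_add])
      map_smul' := fun a f => Representation.IntertwiningMap.ext (by
        simp [LinearMap.smul_comp, LinearMap.comp_smul]) }
  map_one' := by
    refine LinearMap.ext fun f => Representation.IntertwiningMap.ext (LinearMap.ext fun v => ?_)
    show σ (1 : G) (f.toLinearMap (((1 : EU d)⁻¹).val v)) = f.toLinearMap v
    simp
  map_mul' x y := by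
    refine LinearMap.ext fun f => Representation.IntertwiningMap.ext (LinearMap.ext fun v => ?_)
    show σ (x.1.1 * y.1.1) (f.toLinearMap (((x.1.2 * y.1.2)⁻¹).val v))
      = σ x.1.1 (σ y.1.1 (f.toLinearMap ((y.1.2⁻¹).val ((x.1.2⁻¹).val v))))
    simp [mul_inv_rev]

lemma pairAct_apply (x : pairGroup ρ) (f : MS ρ σ) (v : Fin d → ℂ) :
    (pairAct ρ σ x f).toLinearMap v = σ x.1.1 (f.toLinearMap ((x.1.2⁻¹).val v)) := rfl

/-- Scaling the intertwiner scales the action. -/
lemma pairAct_scale (x : pairGroup ρ) (a : ℂˣ) :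
    pairAct ρ σ ⟨(x.1.1, sc d a * x.1.2), x.2.sc_mul a⟩ = ((a⁻¹ : ℂˣ) : ℂ) • pairAct ρ σ x := by
  refine LinearMap.ext fun f => Representation.IntertwiningMap.ext (LinearMap.ext fun v => ?_)
  show σ x.1.1 (f.toLinearMap (((sc d a * x.1.2)⁻¹).val v))
    = ((a⁻¹ : ℂˣ) : ℂ) • σ x.1.1 (f.toLinearMap ((x.1.2⁻¹).val v))
  rw [mul_inv_rev, Units.val_mul, ← map_inv, sc_val]
  simp

/-- Determinant of the action. -/
noncomputable def pairDet : pairGroup ρ →* ℂ := LinearMap.det.comp (pairAct ρ σ)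

variable [Finite G]

/-- `e ∣ |G : N|` for the multiplicity `e` of an invariant character. -/
theorem multiplicity_dvd_index [ρ.IsIrreducible] [σ.IsIrreducible]
    (hinv : ∀ (g : G) (x : N), ρ.character ⟨g * x * g⁻¹, hN.conj_mem x x.2 g⟩ = ρ.character x)
    (hpos : finrank ℂ (MS ρ σ) ≠ 0) (hc : c = finrank ℂ (MS ρ σ) * d) :
    finrank ℂ (MS ρ σ) ∣ N.index := by
  classical
  haveI : NeZero d := ⟨fun h => by
    have := CharApp.finrank_pos_of_irr ρ
    rw [Module.finrank_fin_fun] at this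
    omega⟩
  set e := finrank ℂ (MS ρ σ) with he
  haveI : Nontrivial (MS ρ σ) := Module.nontrivial_of_finrank_pos (R := ℂ) (Nat.pos_of_ne_zero hpos)
  let δ : pairGroup ρ →* ℂˣ := MonoidHom.toHomUnits (pairDet ρ σ)
  let E1 : Subgroup (pairGroup ρ) := δ.ker
  -- every element of `G` has a normalised intertwiner
  have hlift : ∀ g : G, ∃ x : E1, x.1.1.1 = g := by
    intro g
    obtain ⟨T, hT⟩ := exists_intertwines ρ hinv g
    obtain ⟨a, ha⟩ := IsAlgClosed.exists_pow_nat_eq ((δ ⟨(g, T), hT⟩ : ℂˣ) : ℂ) (Nat.pos_of_ne_zero hpos)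
    have ha0 : a ≠ 0 := by
      rintro rfl
      rw [zero_pow hpos] at ha
      exact (δ ⟨(g, T), hT⟩).ne_zero ha.symm
    refine ⟨⟨⟨(g, sc d (Units.mk0 a ha0) * T), hT.sc_mul _⟩, Units.ext ?_⟩, rfl⟩
    show LinearMap.det (pairAct ρ σ ⟨(g, sc d (Units.mk0 a ha0) * T), hT.sc_mul _⟩) = 1
    rw [pairAct_scale ρ σ ⟨(g, T), hT⟩, LinearMap.det_smul, ← he,
      show LinearMap.det (pairAct ρ σ ⟨(g, T), hT⟩) = a ^ e from ha.symm, ← mul_pow, Units.val_inv_eq_inv_val,
      Units.val_mk0, inv_mul_cancel₀ ha0, one_pow]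
  -- scalars over `N`
  have hscal : ∀ x : E1, x.1.1.1 ∈ N → ∃ a : ℂ, pairAct ρ σ x.1 = a • 1 := by
    rintro ⟨⟨⟨g, T⟩, hT⟩, hx⟩ hg
    obtain ⟨a, ha⟩ := intertwines_unique ρ hT (intertwines_apply ρ.toHomUnits ⟨g, hg⟩)
    refine ⟨((a⁻¹ : ℂˣ) : ℂ), ?_⟩
    refine LinearMap.ext fun f => Representation.IntertwiningMap.ext (LinearMap.ext fun v => ?_)
    show σ g (f.toLinearMap ((T⁻¹).val v)) = ((a⁻¹ : ℂˣ) : ℂ) • f.toLinearMap v
    have hTv : ((T⁻¹ : EU d) : Module.End ℂ (Fin d → ℂ))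
        = ((a⁻¹ : ℂˣ) : ℂ) • ρ ⟨g, hg⟩⁻¹ := by
      rw [show T = _ from ha, mul_inv_rev, Units.val_mul, ← map_inv (sc d), sc_val, ← map_inv]
      simp only [mul_smul_comm, mul_one, ← map_inv]
      rfl
    rw [hTv]
    simp only [LinearMap.smul_apply, map_smul]
    congr 1
    have := f.isIntertwining _ _ ⟨g, hg⟩ (ρ ⟨g, hg⟩⁻¹ v)
    rw [← Module.End.mul_apply, ← map_mul, mul_inv_cancel, map_one, Module.End.one_apply] at this
    exact this.symm
  -- finiteness
  let π : E1 →* G :=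
    { toFun := fun x => x.1.1.1
      map_one' := rfl
      map_mul' := fun _ _ => rfl }
  haveI : Finite π.ker := by
    have hfin : ({a : ℂ | a ^ e = 1} : Set ℂ).Finite := by
      apply Set.Finite.subset (Polynomial.nthRootsFinset e (1 : ℂ)).finite_toSet
      intro a ha
      simpa [Polynomial.mem_nthRootsFinset (Nat.pos_of_ne_zero hpos)] using ha
    haveI := hfin.to_subtype
    have hker : ∀ x : π.ker, ∃ a : ℂˣ, x.1.1.1.2 = sc d a ∧ ((a⁻¹ : ℂˣ) : ℂ) ^ e = 1 := by
      rintro ⟨⟨⟨⟨g, T⟩, hT⟩, hx⟩, hg⟩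
      have hg' : g = 1 := hg
      subst hg'
      obtain ⟨a, ha⟩ := intertwines_unique ρ hT (intertwines_one ρ.toHomUnits)
      rw [mul_one] at ha
      refine ⟨a, ha, ?_⟩
      have h1 : LinearMap.det (pairAct ρ σ ⟨((1 : G), T), hT⟩) = 1 := congrArg Units.val hx
      have h2 : (⟨((1 : G), T), hT⟩ : pairGroup ρ)
          = ⟨((1 : pairGroup ρ).1.1, sc d a * (1 : pairGroup ρ).1.2), (1 : pairGroup ρ).2.sc_mul a⟩ :=
        Subtype.ext (Prod.ext rfl (by show T = sc d a * 1; rw [mul_one]; exact ha))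
      rw [h2, pairAct_scale ρ σ 1 a, map_one, LinearMap.det_smul, map_one, mul_one] at h1
      exact h1
    choose a ha hae using hker
    refine Finite.of_injective (fun x => (⟨((a x)⁻¹ : ℂˣ), hae x⟩ : {a : ℂ | a ^ e = 1})) ?_
    intro x y hxy
    have : a x = a y := inv_injective (Units.ext (congrArg Subtype.val hxy))
    refine Subtype.ext (Subtype.ext (Subtype.ext (Prod.ext ?_ ?_)))
    · exact (show π x.1 = 1 from x.2).trans (show π y.1 = 1 from y.2).symm
    · rw [ha, ha, this]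
  haveI : Finite E1 := by
    haveI : Finite (E1 ⧸ π.ker) := Finite.of_equiv _ (QuotientGroup.quotientKerEquivRange π).symm.toEquiv
    exact Finite.of_subgroup_quotient π.ker
  -- the finite irreducible image
  let Φ : E1 →* (Module.End ℂ (MS ρ σ))ˣ := ((pairAct ρ σ).comp E1.subtype).toHomUnits
  haveI : Finite Φ.range := Finite.of_surjective _ Φ.rangeRestrict_surjective
  let τ : Representation ℂ Φ.range (MS ρ σ) := (Units.coeHom _).comp Φ.range.subtype
  haveI hirr : τ.IsIrreducible := by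
    refine CharApp.isIrreducible_of_forall_invariant τ fun W hW => ?_
    by_cases hW0 : W = ⊥
    · exact Or.inl hW0
    refine Or.inr ?_
    haveI : FiniteDimensional ℂ (MS ρ σ) := Module.finite_of_finrank_pos (Nat.pos_of_ne_zero hpos)
    let S : Submodule ℂ (Fin c → ℂ) := ⨆ f : W, LinearMap.range (f : MS ρ σ).toLinearMap
    have hSinv : ∀ (g : G), ∀ v ∈ S, σ g v ∈ S := by
      intro g v hv
      obtain ⟨x, hx⟩ := hlift g
      induction hv using Submodule.iSup_induction' with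
      | mem f v hv =>
        obtain ⟨w, rfl⟩ := hv
        have hf' : pairAct ρ σ x.1 (f : MS ρ σ) ∈ W := hW ⟨Φ x, x, rfl⟩ f f.2
        refine Submodule.mem_iSup_of_mem (⟨_, hf'⟩ : W) ⟨(x.1.1.2 : Module.End ℂ (Fin d → ℂ)) w, ?_⟩
        rw [pairAct_apply, hx, ← Module.End.mul_apply, ← Units.val_mul, inv_mul_cancel, Units.val_one,
          Module.End.one_apply]
      | zero => simp
      | add a b _ _ ha hb => rw [map_add]; exact S.add_mem ha hb
    have hS : S = ⊤ := by
      rcases CharApp.eq_bot_or_top_of_invariant σ S hSinv with h | h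
      · exfalso
        obtain ⟨f, hfW, hf0⟩ := Submodule.exists_mem_ne_zero_of_ne_bot hW0
        refine hf0 (Representation.IntertwiningMap.ext ?_)
        have : LinearMap.range (⟨f, hfW⟩ : W).1.toLinearMap ≤ ⊥ := h ▸ le_iSup
          (fun f : W => LinearMap.range (f : MS ρ σ).toLinearMap) ⟨f, hfW⟩
        exact LinearMap.range_eq_bot.mp (le_bot_iff.mp this)
      · exact h
    haveI : Module.Free ℂ W := Module.Free.of_divisionRing ℂ W
    let b := Module.finBasis ℂ W
    let L : (Fin (finrank ℂ W) → Fin d → ℂ) →ₗ[ℂ] (Fin c → ℂ) :=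
      ∑ i, (b i : MS ρ σ).toLinearMap ∘ₗ LinearMap.proj i
    have hL : S ≤ LinearMap.range L := by
      refine iSup_le fun f => ?_
      rintro _ ⟨w, rfl⟩
      refine ⟨fun i => b.repr f i • w, ?_⟩
      conv_rhs => rw [← b.sum_repr f]
      rw [Submodule.coe_sum, Representation.IntertwiningMap.toLinearMap_sum, LinearMap.sum_apply,
        LinearMap.sum_apply]
      refine Finset.sum_congr rfl fun i _ => ?_
      simp only [LinearMap.coe_comp, Function.comp_apply, LinearMap.coe_proj, Function.eval, map_smul]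
      rfl
    rw [hS, top_le_iff] at hL
    have hle := LinearMap.finrank_range_le L
    rw [hL, finrank_top, Module.finrank_fin_fun, Module.finrank_pi_fintype] at hle
    simp only [Module.finrank_fin_fun, Finset.sum_const, Finset.card_univ, Fintype.card_fin, smul_eq_mul] at hle
    exact Submodule.eq_top_of_finrank_eq
      (le_antisymm (Submodule.finrank_le W) (Nat.le_of_mul_le_mul_right (hc.symm.le.trans hle) (NeZero.pos d)))
  let Z : Subgroup Φ.range := (N.comap π).map Φ.rangeRestrict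
  haveI : Z.Normal := Subgroup.Normal.map (hN.comap π) _ Φ.rangeRestrict_surjective
  have hZ : ∀ a ∈ Z, ∀ b ∈ Z, a * b = b * a := by
    rintro _ ⟨x, hx, rfl⟩ _ ⟨y, hy, rfl⟩
    obtain ⟨a, ha⟩ := hscal x hx
    obtain ⟨b, hb⟩ := hscal y hy
    refine Subtype.ext (Units.ext ?_)
    show pairAct ρ σ x.1 * pairAct ρ σ y.1 = pairAct ρ σ y.1 * pairAct ρ σ x.1
    rw [ha, hb, smul_mul_smul_comm, smul_mul_smul_comm, mul_comm a b]
  refine (Cfsg.Agent.S0169.result τ Z hZ).trans ?_
  refine (Subgroup.index_map_dvd _ Φ.rangeRestrict_surjective).trans ?_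
  rw [Subgroup.index_comap]
  exact Subgroup.relIndex_dvd_index_of_normal _ _

end Cfsg.Agent.CharExtend
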