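/-
Linear characters, determinants and extension from a normal subgroup.

* `valHom` : homomorphisms `G →* ℂˣ` as functions; `exists_valHom`, `orderOf_valHom`
* `detChar_character`, `exists_detChar_eq`, `detChar_restrict`, `detChar_mul_valHom`
* `transfer_extension` : transfer of an extension of an invariant linear character
* `linear_extends_of_local` : extension from subgroups of coprime indices
* `exists_coprime_extension`, `coprime_extension_unique` : coprime order versus index
* `hom_of_det` : an invariant irreducible representation of degree prime to the index extends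
  as soon as its determinant does (Gallagher).
-/
import Cfsg.Agent.Lib.CharExtend.Basic
import Cfsg.Agent.Lib.Char.Linear
import Cfsg.Agent.Lib.TwoFusion.Transfer

set_option autoImplicit false

namespace Cfsg.Agent.CharExtend

open Cfsg

section linear

variable {G : Type*} [Group G]

/-- A homomorphism to `ℂˣ` as a complex function. -/
noncomputable def valHom (G : Type*) [Group G] : (G →* ℂˣ) →* (G → ℂ) where
  toFun l := fun g => (l g : ℂ)
  map_one' := by funext g; simp
  map_mul' l l' := by funext g; simp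

@[simp] lemma valHom_apply (l : G →* ℂˣ) (g : G) : valHom G l g = (l g : ℂ) := rfl

lemma valHom_injective : Function.Injective (valHom G) := fun _ _ h =>
  MonoidHom.ext fun g => Units.ext (congrFun h g)

lemma orderOf_valHom (l : G →* ℂˣ) : orderOf (valHom G l) = orderOf l :=
  orderOf_injective _ valHom_injective l

lemma isCharacter_valHom (l : G →* ℂˣ) : IsCharacter G (valHom G l) :=
  Char.isCharacter_of_hom ((Units.coeHom ℂ).comp l)

lemma valHom_one_apply (l : G →* ℂˣ) : valHom G l 1 = 1 := by simp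

lemma exists_valHom {χ : G → ℂ} (h : IsCharacter G χ) (h1 : χ 1 = 1) :
    ∃ l : G →* ℂˣ, valHom G l = χ := by
  obtain ⟨l, hl⟩ := Char.exists_hom_of_degree_one h h1
  exact ⟨l.toHomUnits, funext fun g => congrFun hl g⟩

/-- The determinant on units of the endomorphism ring. -/
noncomputable def detU (n : ℕ) : EU n →* ℂˣ :=
  Units.map (LinearMap.det : Module.End ℂ (Fin n → ℂ) →* ℂ)

lemma detU_sc (n : ℕ) (c : ℂˣ) : detU n (sc n c) = c ^ n := by
  ext
  show LinearMap.det ((sc n c : EU n) : Module.End ℂ (Fin n → ℂ)) = _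
  rw [sc_val, LinearMap.det_smul]
  simp

variable [Finite G]

theorem detChar_character {n : ℕ} (ρ : Representation ℂ G (Fin n → ℂ)) (g : G) :
    detChar ρ.character g = LinearMap.det (ρ g) := by
  have h : IsCharacter G ρ.character := ⟨n, ρ, rfl⟩
  unfold detChar
  rw [dif_pos h]
  set σ := Classical.choose (Classical.choose_spec h) with hσ
  have hs : σ.character = ρ.character := Classical.choose_spec (Classical.choose_spec h)
  obtain ⟨e⟩ := Char.equiv_of_character_eq ρ σ hs.symm
  have hc : σ g = (e.toLinearEquiv : _ →ₗ[ℂ] _) ∘ₗ ρ g ∘ₗ (e.toLinearEquiv.symm : _ →ₗ[ℂ] _) := by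
    refine LinearMap.ext fun v => ?_
    show σ g v = e.toLinearEquiv (ρ g (e.toLinearEquiv.symm v))
    conv_lhs => rw [← e.toLinearEquiv.apply_symm_apply v]
    exact (e.toIntertwiningMap.isIntertwining _ _ g (e.toLinearEquiv.symm v)).symm
  show LinearMap.det (σ g) = _
  rw [hc, LinearMap.det_conj]

theorem detChar_character_toHomUnits {n : ℕ} (ρ : Representation ℂ G (Fin n → ℂ)) :
    detChar ρ.character = valHom G ((detU n).comp ρ.toHomUnits) := by
  funext g
  rw [detChar_character]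
  rfl

theorem exists_detChar_eq {χ : G → ℂ} (h : IsCharacter G χ) :
    ∃ l : G →* ℂˣ, detChar χ = valHom G l := by
  obtain ⟨n, ρ, rfl⟩ := h
  exact ⟨_, detChar_character_toHomUnits ρ⟩

theorem detChar_restrict {χ : G → ℂ} (h : IsCharacter G χ) (K : Subgroup G) :
    detChar (fun x : K => χ x) = fun x : K => detChar χ x := by
  obtain ⟨n, ρ, rfl⟩ := h
  funext x
  let ρK : Representation ℂ K (Fin n → ℂ) := ρ.comp K.subtype
  have hres : (fun x : K => ρ.character x) = ρK.character := funext fun y => rfl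
  rw [hres, detChar_character, detChar_character]
  rfl

theorem detChar_mul_valHom {χ : G → ℂ} (h : IsCharacter G χ) {d : ℕ} (hd : χ 1 = d) (l : G →* ℂˣ)
    (g : G) : detChar (χ * valHom G l) g = detChar χ g * (l g : ℂ) ^ d := by
  obtain ⟨n, ρ, rfl⟩ := h
  rw [Representation.char_one, Module.finrank_fin_fun] at hd
  obtain rfl : n = d := by exact_mod_cast hd
  let σ : Representation ℂ G (Fin n → ℂ) :=
    { toFun := fun g => (l g : ℂ) • ρ g
      map_one' := by simp
      map_mul' := fun a b => by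
        rw [map_mul, map_mul, Units.val_mul, smul_mul_smul_comm] }
  have hσ : σ.character = ρ.character * valHom G l := by
    funext x
    show LinearMap.trace ℂ _ ((l x : ℂ) • ρ x) = _
    rw [map_smul]
    simp [Representation.character, mul_comm]
  rw [← hσ, detChar_character, detChar_character]
  show LinearMap.det ((l g : ℂ) • ρ g) = _
  rw [LinearMap.det_smul, Module.finrank_fin_fun, mul_comm]

end linear

section transfer

variable {G : Type*} [Group G] [Finite G] {N : Subgroup G} [hN : N.Normal] {A : Type*} [CommGroup A]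

/-- Transfer of an extension of an invariant homomorphism. -/
theorem transfer_extension (lam : N →* A)
    (hinv : ∀ (g : G) (x : N), lam ⟨g * x * g⁻¹, hN.conj_mem x x.2 g⟩ = lam x)
    {H : Subgroup G} (hNH : N ≤ H) (ν : H →* A) (hν : ∀ x : N, ν ⟨x, hNH x.2⟩ = lam x) (x : N) :
    MonoidHom.transfer ν (x : G) = lam x ^ H.index := by
  rw [← hν x]
  refine TwoFusion.transfer_eq_pow_of_controlled ν ⟨(x : G), hNH x.2⟩ fun k a hm => ?_
  have h1 : (⟨a * ((⟨(x : G), hNH x.2⟩ : H) : G) ^ k * a⁻¹, hm⟩ : H) =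
      ⟨(⟨a * ((x ^ k : N) : G) * a⁻¹, hN.conj_mem _ (x ^ k).2 a⟩ : N), hNH (Subtype.mem _)⟩ :=
    Subtype.ext (by simp)
  rw [h1, hν, hinv, map_pow, hν]

/-- Extension from subgroups of coprime index, one for each prime dividing the order. -/
theorem linear_extends_of_local (lam : N →* A) {m : ℕ} (hm : lam ^ m = 1)
    (hinv : ∀ (g : G) (x : N), lam ⟨g * x * g⁻¹, hN.conj_mem x x.2 g⟩ = lam x)
    (hloc : ∀ p : ℕ, p.Prime → p ∣ m → ∃ (H : Subgroup G) (hNH : N ≤ H) (ν : H →* A),
      Nat.Coprime H.index p ∧ ∀ x : N, ν ⟨x, hNH x.2⟩ = lam x) :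
    ∃ μ : G →* A, ∀ x : N, μ x = lam x := by
  let S : AddSubgroup ℤ :=
  { carrier := {i | ∃ μ : G →* A, ∀ x : N, μ x = lam x ^ i}
    zero_mem' := ⟨1, fun x => by simp⟩
    add_mem' := by
      rintro i j ⟨μ, hμ⟩ ⟨μ', hμ'⟩
      exact ⟨μ * μ', fun x => by simp [hμ x, hμ' x, zpow_add]⟩
    neg_mem' := by
      rintro i ⟨μ, hμ⟩
      exact ⟨μ⁻¹, fun x => by simp [hμ x]⟩ }
  have hmS : (m : ℤ) ∈ S := ⟨1, fun x => by
    rw [zpow_natCast, MonoidHom.one_apply]
    exact (DFunLike.congr_fun hm x).symm⟩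
  obtain ⟨a, ha⟩ := Int.subgroup_cyclic S
  rw [← AddSubgroup.zmultiples_eq_closure] at ha
  have ha1 : a.natAbs = 1 := by
    by_contra hne
    obtain ⟨q, hq, hqa⟩ := Nat.exists_prime_and_dvd hne
    have hdvd : ∀ k : ℕ, (k : ℤ) ∈ S → q ∣ k := by
      intro k hk
      rw [ha, Int.mem_zmultiples_iff] at hk
      exact hqa.trans (Int.natAbs_dvd_natAbs.mpr hk)
    obtain ⟨H, hNH, ν, hcop, hν⟩ := hloc q hq (hdvd m hmS)
    have hq' := hdvd H.index ⟨MonoidHom.transfer ν, fun x => by
      rw [zpow_natCast]; exact transfer_extension lam hinv hNH ν hν x⟩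
    exact hq.one_lt.ne' (Nat.dvd_one.mp (hcop ▸ Nat.dvd_gcd hq' dvd_rfl))
  have h1S : (1 : ℤ) ∈ S := by
    rw [ha, Int.mem_zmultiples_iff]
    exact Int.natAbs_dvd.mp (by rw [ha1]; simp)
  obtain ⟨μ, hμ⟩ := h1S
  exact ⟨μ, fun x => by rw [hμ x, zpow_one]⟩

/-- An invariant homomorphism of order prime to the index extends with the same order. -/
theorem exists_coprime_extension (lam : N →* A)
    (hinv : ∀ (g : G) (x : N), lam ⟨g * x * g⁻¹, hN.conj_mem x x.2 g⟩ = lam x)
    (hcop : Nat.Coprime N.index (orderOf lam)) :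
    ∃ μ : G →* A, (∀ x : N, μ x = lam x) ∧ orderOf μ = orderOf lam := by
  set m := orderOf lam with hm
  obtain ⟨μ, hμ⟩ := linear_extends_of_local lam (pow_orderOf_eq_one lam) hinv
    (fun p hp hpm => ⟨N, le_rfl, lam, Nat.Coprime.coprime_dvd_right hpm hcop, fun x => rfl⟩)
  -- raise to a power that is `1` modulo `m` and `0` modulo the index
  obtain ⟨k, hk0, hk1⟩ : ∃ k : ℕ, N.index ∣ k ∧ k ≡ 1 [MOD m] := by
    obtain ⟨k, hk, hk'⟩ := Nat.chineseRemainder hcop 0 1
    exact ⟨k, (Nat.modEq_zero_iff_dvd).mp hk, hk'⟩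
  have hres : ∀ x : N, (μ ^ k) x = lam x := by
    intro x
    rw [MonoidHom.pow_apply, hμ]
    have h1 : lam x ^ m = 1 := DFunLike.congr_fun (pow_orderOf_eq_one lam) x
    rw [← pow_one (lam x), ← pow_mul, one_mul]
    exact pow_eq_pow_iff_modEq.mpr (hk1.of_dvd (orderOf_dvd_of_pow_eq_one h1))
  refine ⟨μ ^ k, hres, Nat.dvd_antisymm ?_ ?_⟩
  · refine orderOf_dvd_of_pow_eq_one (MonoidHom.ext fun g => ?_)
    obtain ⟨c, hc⟩ := hk0
    rw [MonoidHom.pow_apply, MonoidHom.pow_apply, MonoidHom.one_apply, hc, pow_mul, ← map_pow,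
      show μ (g ^ N.index) = lam ⟨g ^ N.index, N.pow_index_mem g⟩ from hμ ⟨_, _⟩, ← pow_mul, mul_comm c,
      pow_mul, ← MonoidHom.pow_apply, hm, pow_orderOf_eq_one, MonoidHom.one_apply, one_pow]
  · refine orderOf_dvd_of_pow_eq_one (MonoidHom.ext fun x => ?_)
    rw [MonoidHom.pow_apply, ← hres, ← MonoidHom.pow_apply, pow_orderOf_eq_one]
    rfl

/-- Two extensions of order prime to the index coincide. -/
theorem coprime_extension_unique (μ μ' : G →* A) (h : ∀ x : N, μ x = μ' x)
    (hμ : Nat.Coprime N.index (orderOf μ)) (hμ' : Nat.Coprime N.index (orderOf μ')) : μ = μ' := by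
  rw [← div_eq_one]
  refine TwoFusion.eq_one_of_pow_eq_one_of_coprime (m := N.index) (n := orderOf μ * orderOf μ') ?_ ?_
    (Nat.Coprime.mul_right hμ hμ')
  · refine MonoidHom.ext fun g => ?_
    rw [MonoidHom.pow_apply, ← map_pow, MonoidHom.div_apply, MonoidHom.one_apply, div_eq_one]
    exact h ⟨_, N.pow_index_mem g⟩
  · rw [div_pow, pow_mul, pow_orderOf_eq_one, one_pow, mul_comm, pow_mul, pow_orderOf_eq_one, one_pow,
      div_one]

end transfer

section det

variable {G : Type*} [Group G] {N : Subgroup G} [hN : N.Normal] {n : ℕ}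

/-- A family of intertwiners compatible with the representation on `N`. -/
theorem exists_section [Finite G] (ρ : Representation ℂ N (Fin n → ℂ))
    (hinv : ∀ (g : G) (x : N), ρ.character ⟨g * x * g⁻¹, hN.conj_mem x x.2 g⟩ = ρ.character x) :
    ∃ T : G → EU n, (∀ g, Intertwines ρ.toHomUnits g (T g)) ∧
      (∀ (x : N) (g : G), T ((x : G) * g) = ρ.toHomUnits x * T g) ∧ T 1 = 1 := by
  classical
  choose T0 hT0 using fun g => exists_intertwines ρ hinv g
  let sel : G ⧸ N → G := fun q => if q = 1 then 1 else q.out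
  have hsel : ∀ g : G, g * (sel g)⁻¹ ∈ N := by
    intro g
    rw [← QuotientGroup.eq_one_iff, QuotientGroup.mk_mul, QuotientGroup.mk_inv]
    by_cases h : (g : G ⧸ N) = 1
    · simp [sel, h]
    · simp only [sel, if_neg h]
      rw [QuotientGroup.out_eq', mul_inv_cancel]
  let U : G ⧸ N → EU n := fun q => if q = 1 then 1 else T0 (sel q)
  have hU : ∀ q, Intertwines ρ.toHomUnits (sel q) (U q) := by
    intro q
    by_cases h : q = 1
    · simp only [U, sel, if_pos h]; exact intertwines_one _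
    · simp only [U, if_neg h]; exact hT0 _
  refine ⟨fun g => ρ.toHomUnits ⟨g * (sel g)⁻¹, hsel g⟩ * U g, fun g => ?_, fun x g => ?_, ?_⟩
  · have h := (intertwines_apply ρ.toHomUnits ⟨g * (sel g)⁻¹, hsel g⟩).mul (hU g)
    rwa [show ((⟨g * (sel g)⁻¹, hsel g⟩ : N) : G) * sel g = g from inv_mul_cancel_right g (sel g)] at h
  · have hq : (((x : G) * g : G) : G ⧸ N) = (g : G ⧸ N) := by
      rw [QuotientGroup.mk_mul, (QuotientGroup.eq_one_iff _).mpr x.2, one_mul]
    show ρ.toHomUnits ⟨(x : G) * g * (sel (((x : G) * g : G) : G ⧸ N))⁻¹, hsel _⟩ *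
        U (((x : G) * g : G) : G ⧸ N)
      = ρ.toHomUnits x * (ρ.toHomUnits ⟨g * (sel g)⁻¹, hsel g⟩ * U g)
    rw [← mul_assoc, ← map_mul, show (⟨(x : G) * g * (sel (((x : G) * g : G) : G ⧸ N))⁻¹, hsel _⟩ : N)
      = x * ⟨g * (sel g)⁻¹, hsel g⟩ from Subtype.ext (by simp [hq, mul_assoc]), hq]
  · show ρ.toHomUnits ⟨1 * (sel ((1 : G) : G ⧸ N))⁻¹, hsel 1⟩ * U ((1 : G) : G ⧸ N) = 1
    rw [show (⟨1 * (sel ((1 : G) : G ⧸ N))⁻¹, hsel 1⟩ : N) = 1 from Subtype.ext (by simp [sel]),
      map_one, one_mul]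
    simp [U]

/-- Gallagher: degree prime to the index and extendible determinant give an extension. -/
theorem hom_of_det [Finite G] (ρ : Representation ℂ N (Fin n → ℂ)) [ρ.IsIrreducible]
    (hinv : ∀ (g : G) (x : N), ρ.character ⟨g * x * g⁻¹, hN.conj_mem x x.2 g⟩ = ρ.character x)
    (hcop : Nat.Coprime N.index n) (μ : G →* ℂˣ)
    (hμ : ∀ x : N, μ x = detU n (ρ.toHomUnits x)) :
    ∃ R : G →* EU n, ∀ x : N, R (x : G) = ρ.toHomUnits x := by
  classical
  haveI : Fintype (G ⧸ N) := Fintype.ofFinite _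
  haveI : NeZero n := ⟨fun h => by
    have := CharApp.finrank_pos_of_irr ρ
    rw [Module.finrank_fin_fun] at this
    omega⟩
  set ρu := ρ.toHomUnits with hρu
  obtain ⟨T₀, hT₀, hT₀mul, hT₀1⟩ := exists_section ρ hinv
  -- normalise the determinants
  obtain ⟨root, hroot, hroot1⟩ : ∃ root : ℂˣ → ℂˣ, (∀ u, root u ^ n = u) ∧ root 1 = 1 := by
    have : ∀ u : ℂˣ, ∃ v : ℂˣ, v ^ n = u ∧ (u = 1 → v = 1) := by
      intro u
      by_cases hu : u = 1
      · exact ⟨1, by rw [hu, one_pow], fun _ => rfl⟩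
      obtain ⟨d, hd⟩ := IsAlgClosed.exists_pow_nat_eq (u : ℂ) (NeZero.pos n)
      have hd0 : d ≠ 0 := fun h => u.ne_zero (by rw [← hd, h, zero_pow (NeZero.ne n)])
      exact ⟨Units.mk0 d hd0, Units.ext (by simpa using hd), fun h => absurd h hu⟩
    choose r hr using this
    exact ⟨r, fun u => (hr u).1, (hr 1).2 rfl⟩
  let c : G → ℂˣ := fun g => root (μ g / detU n (T₀ g))
  have hcN : ∀ (x : N) (g : G), c ((x : G) * g) = c g := by
    intro x g
    simp only [c]
    rw [hT₀mul, map_mul, map_mul, hμ, mul_div_mul_left_eq_div]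
  obtain ⟨T, hT, hTmul, hT1, hTdet⟩ : ∃ T : G → EU n, (∀ g, Intertwines ρu g (T g)) ∧
      (∀ (x : N) (g : G), T ((x : G) * g) = ρu x * T g) ∧ T 1 = 1 ∧ ∀ g, detU n (T g) = μ g := by
    refine ⟨fun g => sc n (c g) * T₀ g, fun g => (hT₀ g).sc_mul _, fun x g => ?_, ?_, fun g => ?_⟩
    · show sc n (c ((x : G) * g)) * T₀ ((x : G) * g) = ρu x * (sc n (c g) * T₀ g)
      rw [hcN, hT₀mul, ← mul_assoc, sc_comm, mul_assoc]
    · show sc n (c 1) * T₀ 1 = 1
      rw [show c 1 = 1 by simp [c, hT₀1, hroot1], map_one, one_mul, hT₀1]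
    · rw [map_mul, detU_sc, hroot, div_mul_cancel]
  choose α hα using fun g h => intertwines_unique ρ ((hT g).mul (hT h)) (hT (g * h))
  have hαn : ∀ g h, α g h ^ n = 1 := by
    intro g h
    have := congrArg (detU n) (hα g h)
    rw [map_mul, map_mul, hTdet, hTdet, hTdet, detU_sc, ← map_mul, eq_comm, mul_eq_right] at this
    exact this
  have hcoc : ∀ g h k : G, α g h * α (g * h) k = α g (h * k) * α h k := fun g h k => sc_injective (n := n) (by
    have e1 : T g * T h * T k = sc n (α g h * α (g * h) k) * T (g * h * k) := by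
      rw [hα, mul_assoc, hα, ← mul_assoc, ← map_mul]
    have e2 : T g * T h * T k = sc n (α g (h * k) * α h k) * T (g * h * k) := by
      rw [mul_assoc, hα h k, ← mul_assoc, ← sc_comm, mul_assoc, hα g (h * k), ← mul_assoc, ← map_mul,
        mul_comm (α g (h * k)), ← mul_assoc g h k]
    exact mul_right_cancel (e1.symm.trans e2))
  have hleft : ∀ x ∈ N, ∀ g h : G, α (x * g) h = α g h := fun x hx g h => sc_injective (n := n) (by
    have e1 := hα (x * g) h
    rw [hTmul ⟨x, hx⟩ g, mul_assoc, hα g h, mul_assoc x g h, hTmul ⟨x, hx⟩ (g * h), ← mul_assoc,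
      ← sc_comm, mul_assoc] at e1
    exact (mul_right_cancel e1).symm)
  have hright : ∀ x ∈ N, ∀ g h : G, α g (x * h) = α g h := fun x hx g h => sc_injective (n := n) (by
    have e1 := hα g (x * h)
    rw [hTmul ⟨x, hx⟩ h, ← mul_assoc, hT g ⟨x, hx⟩, mul_assoc, hα g h,
      show g * (x * h) = (g * x * g⁻¹) * (g * h) by group,
      hTmul ⟨g * x * g⁻¹, hN.conj_mem x hx g⟩ (g * h), ← mul_assoc, ← sc_comm, mul_assoc] at e1
    exact (mul_right_cancel e1).symm)
  -- the index kills the factor set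
  let f : G → ℂˣ := fun h => ∏ q : G ⧸ N, α q.out h
  have hf : ∀ h k, f h * f k = f (h * k) * α h k ^ N.index := by
    intro h k
    have hshift : ∀ q : G ⧸ N, α (Quotient.out (q * (h : G ⧸ N))) k = α (q.out * h) k := by
      intro q
      have hmem : Quotient.out (q * (h : G ⧸ N)) * (q.out * h)⁻¹ ∈ N := by
        rw [← QuotientGroup.eq_one_iff, QuotientGroup.mk_mul, QuotientGroup.mk_inv, QuotientGroup.mk_mul,
          QuotientGroup.out_eq', QuotientGroup.out_eq', mul_inv_cancel]
      rw [← hleft _ hmem (q.out * h) k, inv_mul_cancel_right]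
    calc f h * f k = ∏ q : G ⧸ N, α q.out h * α (q.out * h) k := by
          rw [Finset.prod_mul_distrib]
          congr 1
          exact (Fintype.prod_equiv (Equiv.mulRight (h : G ⧸ N)) _ _ fun q => (hshift q).symm).symm
      _ = ∏ q : G ⧸ N, α q.out (h * k) * α h k := Finset.prod_congr rfl fun q _ => hcoc _ _ _
      _ = _ := by
          rw [Finset.prod_mul_distrib, Finset.prod_const, Finset.card_univ, Subgroup.index_eq_card,
            Nat.card_eq_fintype_card]
  obtain ⟨a, b, hab⟩ : ∃ a b : ℤ, (N.index : ℤ) * a + (n : ℤ) * b = 1 := by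
    refine ⟨Nat.gcdA N.index n, Nat.gcdB N.index n, ?_⟩
    rw [← Nat.gcd_eq_gcd_ab, hcop.gcd_eq_one, Nat.cast_one]
  let d : G → ℂˣ := fun g => f g ^ a
  have hd : ∀ g h, α g h = d g * d h / d (g * h) := by
    intro g h
    simp only [d]
    rw [← mul_zpow, hf, mul_zpow, mul_div_cancel_left, ← zpow_natCast, ← zpow_mul]
    conv_lhs => rw [← zpow_one (α g h), ← hab, zpow_add, zpow_mul _ (n : ℤ), zpow_natCast (α g h) n,
      hαn, one_zpow, mul_one]
  have hdN : ∀ x ∈ N, ∀ g, d (x * g) = d g := fun x hx g => by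
    simp only [d, f]
    rw [Finset.prod_congr rfl fun q _ => hright x hx q.out g]
  have h1 : α 1 1 = 1 := sc_injective (n := n) (by
    have := hα 1 1
    rw [mul_one, hT1, one_mul, mul_one] at this
    rw [← this, map_one])
  have hd1 : d 1 = 1 := by simpa [h1] using (hd 1 1).symm
  have hdx : ∀ x : N, d x = 1 := fun x => by rw [← hd1, ← hdN x x.2 1, mul_one]
  have hTN : ∀ x : N, T x = ρu x := fun x => by simpa [hT1] using hTmul x 1
  refine ⟨MonoidHom.mk' (fun g => sc n (d g)⁻¹ * T g) (fun g h => ?_), fun x => by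
    simp [hTN, hdx]⟩
  show sc n (d (g * h))⁻¹ * T (g * h) = sc n (d g)⁻¹ * T g * (sc n (d h)⁻¹ * T h)
  rw [mul_assoc, ← mul_assoc (T g), ← sc_comm, mul_assoc, hα, ← mul_assoc (sc n (d h)⁻¹), ← mul_assoc,
    ← map_mul, ← map_mul, hd]
  congr 2
  simp only [div_eq_mul_inv]
  rw [show (d g)⁻¹ * ((d h)⁻¹ * (d g * d h * (d (g * h))⁻¹))
    = ((d g)⁻¹ * d g) * ((d h)⁻¹ * d h) * (d (g * h))⁻¹ by ac_rfl, inv_mul_cancel, inv_mul_cancel,
    one_mul, one_mul]

end det

end Cfsg.Agent.CharExtend
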