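/-
Extension of invariant irreducible characters, coprime quotient.

* `hom_of_coprime`, `extends_of_coprime` : an invariant irreducible character of a normal subgroup
  of order coprime to its index extends (intertwiners of determinant one and Schur-Zassenhaus).
-/
import Cfsg.Agent.Lib.CharExtend.Basic
import Cfsg.Agent.Lib.Char.Integral

set_option autoImplicit false

namespace Cfsg.Agent.CharExtend

open Cfsg

variable {G : Type*} [Group G] {N : Subgroup G} [hN : N.Normal] {n : ℕ}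

/-- Determinant of a unit endomorphism. -/
noncomputable def coprimeDet (n : ℕ) : EU n →* ℂˣ := Units.map LinearMap.det

lemma coprimeDet_sc (c : ℂˣ) : coprimeDet n (sc n c) = c ^ n := by
  ext
  show LinearMap.det ((sc n c : EU n) : Module.End ℂ (Fin n → ℂ)) = _
  rw [sc_val, LinearMap.det_smul, Module.finrank_fin_fun, map_one, mul_one, Units.val_pow_eq_pow_val]

theorem hom_of_coprime [Finite G] (ρ : Representation ℂ N (Fin n → ℂ)) [ρ.IsIrreducible]
    (hinv : ∀ (g : G) (x : N), ρ.character ⟨g * x * g⁻¹, hN.conj_mem x x.2 g⟩ = ρ.character x)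
    (hcop : Nat.Coprime (Nat.card N) N.index) :
    ∃ R : G →* EU n, ∀ x : N, R (x : G) = ρ.toHomUnits x := by
  classical
  set ρu := ρ.toHomUnits with hρu
  set m := Nat.card N with hm
  have hm0 : m ≠ 0 := Nat.card_pos.ne'
  have hn : 0 < n ∧ n ∣ m := by
    obtain ⟨k, hk0, hk, hdvd⟩ :=
      Char.IsIrrCharacter.degree_dvd_card (Char.isIrrCharacter_character ρ)
    rw [Representation.char_one, Module.finrank_fin_fun, Nat.cast_inj] at hk
    exact ⟨hk ▸ hk0, hk ▸ hdvd⟩
  haveI : NeZero n := ⟨hn.1.ne'⟩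
  let E : Subgroup (G × EU n) :=
    { carrier := {x | Intertwines ρu x.1 x.2 ∧ coprimeDet n x.2 ^ m = 1}
      one_mem' := ⟨intertwines_one _, by simp⟩
      mul_mem' := fun {x y} hx hy => ⟨hx.1.mul hy.1, by
        rw [Prod.snd_mul, map_mul, mul_pow, hx.2, hy.2, one_mul]⟩
      inv_mem' := fun {x} hx => ⟨hx.1.inv, by rw [Prod.snd_inv, map_inv, inv_pow, hx.2, inv_one]⟩ }
  -- determinant one lifts
  have hlift : ∀ g : G, ∃ T : EU n, Intertwines ρu g T ∧ coprimeDet n T = 1 := by
    intro g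
    obtain ⟨T, hT⟩ := exists_intertwines ρ hinv g
    obtain ⟨c, hc⟩ := IsAlgClosed.exists_pow_nat_eq (((coprimeDet n T)⁻¹ : ℂˣ) : ℂ) hn.1
    have hc0 : c ≠ 0 := fun h => by
      rw [h, zero_pow hn.1.ne'] at hc
      exact Units.ne_zero _ hc.symm
    refine ⟨sc n (Units.mk0 c hc0) * T, hT.sc_mul _, ?_⟩
    rw [map_mul, coprimeDet_sc, mul_eq_one_iff_eq_inv]
    exact Units.ext (by rw [Units.val_pow_eq_pow_val, Units.val_mk0, hc])
  choose T hT hTdet using hlift
  have hmemE : ∀ g, (g, T g) ∈ E := fun g => ⟨hT g, by rw [hTdet, one_pow]⟩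
  -- finiteness
  have hk : n * m ≠ 0 := mul_ne_zero hn.1.ne' hm0
  haveI : NeZero (n * m) := ⟨hk⟩
  have hscal : ∀ x : E, ∃ c : rootsOfUnity (n * m) ℂ, x.1.2 = sc n (c : ℂˣ) * T x.1.1 := by
    intro x
    obtain ⟨c, hc⟩ := intertwines_unique ρ x.2.1 (hT x.1.1)
    refine ⟨⟨c, ?_⟩, hc⟩
    rw [mem_rootsOfUnity, pow_mul, ← coprimeDet_sc (n := n) c]
    have := x.2.2
    rwa [hc, map_mul, hTdet, mul_one] at this
  choose cf hcf using hscal
  haveI : Finite E := Finite.of_injective (fun x : E => (x.1.1, cf x)) fun x y h => by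
    obtain ⟨h1, h2⟩ := Prod.mk.inj h
    exact Subtype.ext (Prod.ext h1 (by rw [hcf x, hcf y, h2, h1]))
  -- the copy of `N`
  let j : N →* E :=
    { toFun := fun x => ⟨((x : G), ρu x), intertwines_apply ρu x, by
        rw [← map_pow, ← map_pow, pow_card_eq_one', map_one, map_one]⟩
      map_one' := by ext <;> simp
      map_mul' := fun x y => by ext <;> simp }
  have hj : ∀ (e : E) (x : N), e * j x * e⁻¹ = j ⟨e.1.1 * x * (e.1.1)⁻¹, hN.conj_mem x x.2 _⟩ := by
    intro e x
    refine Subtype.ext (Prod.ext rfl ?_)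
    show e.1.2 * ρu x * (e.1.2)⁻¹ = ρu _
    rw [e.2.1 x, mul_inv_cancel_right]
  haveI : j.range.Normal := ⟨by
    rintro _ ⟨x, rfl⟩ e
    exact ⟨_, (hj e x).symm⟩⟩
  let fst : E →* G := (MonoidHom.fst G (EU n)).comp E.subtype
  let f : E ⧸ j.range →* G ⧸ N := QuotientGroup.lift j.range ((QuotientGroup.mk' N).comp fst) (by
    rintro _ ⟨x, rfl⟩
    exact (QuotientGroup.eq_one_iff _).mpr x.2)
  have hf : Function.Surjective f := by
    intro q
    obtain ⟨g, rfl⟩ := QuotientGroup.mk_surjective q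
    exact ⟨QuotientGroup.mk ⟨(g, T g), hmemE g⟩, rfl⟩
  have hindex : f.ker.index = N.index := by
    rw [Subgroup.index_ker, MonoidHom.range_eq_top.mpr hf, Subgroup.card_top, Subgroup.index_eq_card]
  -- the kernel is made of scalars
  have hker : ∀ z ∈ f.ker, ∃ e : E, fst e = 1 ∧ QuotientGroup.mk e = z := by
    intro z hz
    obtain ⟨e, rfl⟩ := QuotientGroup.mk_surjective z
    have he : fst e ∈ N := (QuotientGroup.eq_one_iff _).mp hz
    refine ⟨e * (j ⟨fst e, he⟩)⁻¹, by simp [fst, j], ?_⟩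
    rw [QuotientGroup.mk_mul_of_mem]
    exact inv_mem ⟨_, rfl⟩
  have hpow : ∀ z : f.ker, z ^ (n * m) = 1 := by
    rintro ⟨z, hz⟩
    obtain ⟨e, he, rfl⟩ := hker z hz
    apply Subtype.ext
    have h1 : e.1.2 = sc n (cf e : ℂˣ) * T 1 := by rw [hcf e]; exact congrArg _ (congrArg T he)
    obtain ⟨c, hc⟩ := intertwines_unique ρ (hT 1) (intertwines_one ρu)
    rw [mul_one] at hc
    have hcn : c ^ n = 1 := by rw [← coprimeDet_sc (n := n) c, ← hc, hTdet]
    have h2 : (cf e : ℂˣ) ^ (n * m) = 1 := (cf e).2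
    show (QuotientGroup.mk e : E ⧸ j.range) ^ (n * m) = 1
    rw [← QuotientGroup.mk_pow]
    refine (congrArg _ ?_).trans (QuotientGroup.mk_one j.range)
    refine Subtype.ext (Prod.ext ?_ ?_)
    · show (e.1.1) ^ (n * m) = 1
      rw [show e.1.1 = 1 from he, one_pow]
    · show (e.1.2) ^ (n * m) = 1
      rw [h1, hc, ← map_mul, ← map_pow, mul_pow, h2, pow_mul, hcn, one_pow, one_mul, map_one]
  have hcopK : Nat.Coprime (Nat.card f.ker) f.ker.index := by
    rw [hindex]
    refine Nat.coprime_of_dvd fun q hq h1 h2 => ?_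
    haveI := Fact.mk hq
    obtain ⟨z, hz⟩ := exists_prime_orderOf_dvd_card' q h1
    have : q ∣ n * m := hz ▸ orderOf_dvd_of_pow_eq_one (hpow z)
    have hqm : q ∣ m := (hq.dvd_mul.mp this).elim (fun h => h.trans hn.2) id
    exact hq.not_dvd_one (hcop ▸ Nat.dvd_gcd hqm h2)
  obtain ⟨H, hH⟩ := Subgroup.exists_right_complement'_of_coprime hcopK
  let P : Subgroup E := H.comap (QuotientGroup.mk' j.range)
  have hjP : ∀ x : N, j x ∈ P := fun x => by
    show (QuotientGroup.mk (j x) : E ⧸ j.range) ∈ H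
    rw [(QuotientGroup.eq_one_iff (j x)).mpr (MonoidHom.mem_range.mpr ⟨x, rfl⟩)]
    exact one_mem H
  have hbij : Function.Bijective (fst.comp P.subtype) := by
    constructor
    · rw [injective_iff_map_eq_one]
      rintro ⟨e, he⟩ h
      have hk : (QuotientGroup.mk e : E ⧸ j.range) ∈ f.ker := by
        show (QuotientGroup.mk (fst e) : G ⧸ N) = 1
        rw [show fst e = 1 from h, QuotientGroup.mk_one]
      obtain ⟨x, hx⟩ := (QuotientGroup.eq_one_iff e).mp (Subgroup.disjoint_def.mp hH.disjoint hk he)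
      have : x = 1 := by
        apply Subtype.ext
        have h' : fst (j x) = 1 := (congrArg fst hx).trans h
        exact h'
      exact Subtype.ext (hx.symm.trans (by rw [this, map_one]; rfl))
    · intro g
      obtain ⟨⟨⟨k, hk⟩, ⟨h, hh⟩⟩, he⟩ := hH.2 (QuotientGroup.mk ⟨(g, T g), hmemE g⟩)
      obtain ⟨e, rfl⟩ := QuotientGroup.mk_surjective h
      have he' : f k * f (QuotientGroup.mk e) = f (QuotientGroup.mk ⟨(g, T g), hmemE g⟩) := by
        rw [← map_mul]; exact congrArg f he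
      rw [MonoidHom.mem_ker.mp hk, one_mul] at he'
      have hN' : g * (fst e)⁻¹ ∈ N := by
        rw [← QuotientGroup.eq_one_iff, QuotientGroup.mk_mul, QuotientGroup.mk_inv, mul_inv_eq_one]
        exact he'.symm
      exact ⟨⟨j ⟨_, hN'⟩ * e, mul_mem (hjP _) hh⟩, inv_mul_cancel_right g (fst e)⟩
  let e := MulEquiv.ofBijective (fst.comp P.subtype) hbij
  let snd : P →* EU n := ((MonoidHom.snd G (EU n)).comp E.subtype).comp P.subtype
  refine ⟨snd.comp e.symm.toMonoidHom, fun x => ?_⟩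
  have : e.symm (x : G) = ⟨j x, hjP x⟩ := e.symm_apply_eq.mpr rfl
  show snd (e.symm (x : G)) = _
  rw [this]
  rfl

/-- An invariant irreducible character extends if the order is coprime to the index. -/
theorem extends_of_coprime [Finite G] {θ : N → ℂ} (hθ : IsIrrCharacter N θ)
    (hinv : ∀ (g : G) (x : N), θ ⟨g * x * g⁻¹, hN.conj_mem x x.2 g⟩ = θ x)
    (hcop : Nat.Coprime (Nat.card N) N.index) :
    ∃ χ : G → ℂ, IsIrrCharacter G χ ∧ ∀ x : N, χ x = θ x := by
  obtain ⟨n, ρ, hirr, rfl⟩ := hθ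
  haveI := hirr
  obtain ⟨R, hR⟩ := hom_of_coprime ρ hinv hcop
  exact extends_of_hom ρ R hR

end Cfsg.Agent.CharExtend
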