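import Cfsg.Agent.Lib.CharExtend.DetExt
import Cfsg.Agent.Lib.GaloisPow.Twist
import Cfsg.Agent.Lib.Blocks.WeakOrth
import Cfsg.Agent.Lib.BrauerPairs.Basic

/-!
# `p`-rational characters and a regular-class criterion for the principal block

* `apply_pow_eq_of_adjoin`, `mem_adjoin_of_pow_invariant`: values in a cyclotomic field against
  invariance under power maps;
* `detChar_comp_pow`;
* `eq_one_of_memI_sub_one`: a `p'`-root of unity congruent to `1` is `1`;
* `mem_principal_of_regular`: the principal block is detected on `p`-regular classes;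
* `memI_sub_of_mem_principal`: values of principal block characters at elements centralising a Sylow
  `p`-subgroup.
-/

set_option autoImplicit false

open scoped ComplexConjugate

namespace Cfsg.Agent.PRational

open Cfsg Cfsg.Agent.Blocks

section Galois

variable {G : Type*} [Group G] [Finite G]

theorem galois_apply {n k : ℕ} (hn : Nat.card G ∣ n) (f : ℂ ≃+* ℂ)
    (hf : ∀ z : ℂ, z ^ n = 1 → f z = z ^ k) {χ : G → ℂ} (hχ : IsCharacter G χ) (g : G) :
    f (χ g) = χ (g ^ k) := by
  obtain ⟨d, ρ, rfl⟩ := hχ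
  obtain ⟨b, μ, hμ, hroot⟩ := Char.exists_eigenbasis ρ g
  rw [Char.character_pow ρ g b μ hμ, Char.character_eq_sum_eigenvalues ρ g b μ hμ, map_sum]
  refine Finset.sum_congr rfl fun i _ => hf _ ?_
  obtain ⟨c, hc⟩ := (orderOf_dvd_natCard g).trans hn
  rw [hc, pow_mul, hroot i, one_pow]

/-- Values in `ℚ(ζ_m)` are fixed by the power maps congruent to `1` modulo `m`. -/
theorem apply_pow_eq_of_adjoin {χ : G → ℂ} (hχ : IsCharacter G χ) {m : ℕ} (hm : m ≠ 0)
    (hval : ∀ g, χ g ∈ IntermediateField.adjoin ℚ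
      ({Complex.exp (2 * Real.pi * Complex.I / m)} : Set ℂ))
    {k : ℕ} (hk : k.Coprime (Nat.card G * m)) (hk1 : k ≡ 1 [MOD m]) (g : G) :
    χ (g ^ k) = χ g := by
  obtain ⟨f, hf⟩ := GaloisPow.exists_ringAut (mul_ne_zero Nat.card_pos.ne' hm) hk
  rw [← galois_apply (dvd_mul_right _ _) f hf hχ g]
  set ζ := Complex.exp (2 * Real.pi * Complex.I / m)
  have hζ : IsPrimitiveRoot ζ m := Complex.isPrimitiveRoot_exp m hm
  have hζF : f ζ = ζ := by
    have h1 : ζ ^ (Nat.card G * m) = 1 := by rw [mul_comm, pow_mul, hζ.pow_eq_one, one_pow]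
    rw [hf ζ h1]
    rw [pow_eq_pow_mod k hζ.pow_eq_one, hk1, ← pow_eq_pow_mod 1 hζ.pow_eq_one, pow_one]
  refine IntermediateField.adjoin_induction ℚ (p := fun x _ => f x = x) ?_ ?_ ?_ ?_ ?_ (hval g)
  · intro x hx
    rw [Set.mem_singleton_iff.1 hx]
    exact hζF
  · intro q
    rw [eq_ratCast, map_ratCast]
  · intro x y _ _ hx hy
    rw [map_add, hx, hy]
  · intro x _ hx
    rw [map_inv₀, hx]
  · intro x y _ _ hx hy
    rw [map_mul, hx, hy]

theorem detChar_twist (f : ℂ →+* ℂ) {χ : G → ℂ} (hχ : IsCharacter G χ) (g : G) :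
    detChar (fun x => f (χ x)) g = f (detChar χ g) := by
  obtain ⟨n, ρ, rfl⟩ := hχ
  let σ : Representation ℂ G (Fin n → ℂ) :=
    { toFun := fun g => Matrix.toLinAlgEquiv' ((LinearMap.toMatrixAlgEquiv' (ρ g)).map f)
      map_one' := by rw [map_one, map_one, Matrix.map_one f (map_zero f) (map_one f), map_one]
      map_mul' := fun g h => by rw [map_mul, map_mul, Matrix.map_mul, map_mul] }
  have hσ : σ.character = fun x => f (ρ.character x) := by
    funext x
    show LinearMap.trace ℂ _ (Matrix.toLinAlgEquiv' ((LinearMap.toMatrixAlgEquiv' (ρ x)).map f)) = _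
    rw [LinearMap.trace_eq_matrix_trace ℂ (Pi.basisFun ℂ (Fin n)), Representation.character,
      LinearMap.trace_eq_matrix_trace ℂ (Pi.basisFun ℂ (Fin n))]
    simp [Matrix.trace, LinearMap.toMatrix_eq_toMatrix', LinearMap.toMatrixAlgEquiv',
      Matrix.toLinAlgEquiv']
  rw [← hσ, CharExtend.detChar_character, CharExtend.detChar_character]
  show LinearMap.det (Matrix.toLin' ((LinearMap.toMatrix' (ρ g)).map f)) = _
  rw [LinearMap.det_toLin', ← LinearMap.det_toMatrix', RingHom.map_det]
  rfl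

/-- The determinant of a character composed with a power map. -/
theorem detChar_comp_pow {χ : G → ℂ} (hχ : IsCharacter G χ) {k : ℕ}
    (hk : k.Coprime (Nat.card G)) (g : G) :
    detChar (fun x => χ (x ^ k)) g = detChar χ g ^ k := by
  obtain ⟨f, hf⟩ := GaloisPow.exists_ringAut Nat.card_pos.ne' hk
  have h : (fun x => χ (x ^ k)) = fun x => (f : ℂ →+* ℂ) (χ x) :=
    funext fun x => (galois_apply dvd_rfl f hf hχ x).symm
  rw [h, detChar_twist _ hχ]
  refine hf _ ?_
  obtain ⟨l, hl⟩ := CharExtend.exists_detChar_eq hχ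
  rw [hl, CharExtend.valHom_apply, ← Units.val_pow_eq_pow_val, ← map_pow, pow_card_eq_one', map_one,
    Units.val_one]

theorem sum_coprime_pow_mem {K : IntermediateField ℚ ℂ} {p a : ℕ} (hp : p.Prime) {u : ℂ}
    (hu : u ^ p ^ a = 1) :
    ∑ k ∈ (Finset.range (p ^ a)).filter (Nat.Coprime · (p ^ a)), u ^ k ∈ K := by
  classical
  have hgeom : ∀ (n : ℕ) (v : ℂ), v ^ n = 1 → ∑ i ∈ Finset.range n, v ^ i ∈ K := by
    intro n v hv
    by_cases h1 : v = 1
    · simp only [h1, one_pow, Finset.sum_const, Finset.card_range, nsmul_eq_mul, mul_one]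
      exact natCast_mem K n
    · have h := geom_sum_mul v n
      rw [hv, sub_self, mul_eq_zero] at h
      rw [h.resolve_right (sub_ne_zero.2 h1)]
      exact zero_mem K
  cases a with
  | zero => simp
  | succ a =>
    have h := hgeom _ u hu
    rw [← Finset.sum_filter_add_sum_filter_not (Finset.range (p ^ (a + 1)))
      (Nat.Coprime · (p ^ (a + 1)))] at h
    refine (add_mem_cancel_right ?_).1 h
    have himg : (Finset.range (p ^ (a + 1))).filter (fun k => ¬ Nat.Coprime k (p ^ (a + 1)))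
        = (Finset.range (p ^ a)).image (p * ·) := by
      ext k
      simp only [Finset.mem_filter, Finset.mem_range, Finset.mem_image,
        Nat.coprime_pow_right_iff (Nat.succ_pos a), Nat.coprime_comm (n := k),
        hp.coprime_iff_not_dvd, not_not]
      constructor
      · rintro ⟨hk, c, rfl⟩
        exact ⟨c, Nat.lt_of_mul_lt_mul_left (by rwa [← pow_succ']), rfl⟩
      · rintro ⟨c, hc, rfl⟩
        exact ⟨by rw [pow_succ']; exact Nat.mul_lt_mul_of_pos_left hc hp.pos, dvd_mul_right _ _⟩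
    rw [himg, Finset.sum_image (fun x _ y _ h => Nat.eq_of_mul_eq_mul_left hp.pos h)]
    simp only [pow_mul]
    exact hgeom _ _ (by rw [← pow_mul, ← pow_succ', hu])

/-- A value invariant under the power maps congruent to `1` modulo the `p'`-part of the order lies
in the field of the `p'`-roots of unity. -/
theorem mem_adjoin_of_pow_invariant {χ : G → ℂ} (hχ : IsCharacter G χ) (g : G) {p a m : ℕ}
    (hp : p.Prime) (hG : Nat.card G = p ^ a * m) (hpm : ¬ p ∣ m)
    (h : ∀ k : ℕ, k.Coprime (Nat.card G) → k ≡ 1 [MOD m] → χ (g ^ k) = χ g) :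
    χ g ∈ IntermediateField.adjoin ℚ ({Complex.exp (2 * Real.pi * Complex.I / m)} : Set ℂ) := by
  classical
  set K := IntermediateField.adjoin ℚ ({Complex.exp (2 * Real.pi * Complex.I / m)} : Set ℂ)
  have hm : m ≠ 0 := fun h0 => Nat.card_pos.ne' (by rw [hG, h0, mul_zero])
  have : NeZero m := ⟨hm⟩
  have hcop : (p ^ a).Coprime m := (hp.coprime_iff_not_dvd.2 hpm).pow_left a
  obtain ⟨e₁, h₁, h₁'⟩ := Nat.chineseRemainder hcop 0 1
  obtain ⟨e₂, h₂, h₂'⟩ := Nat.chineseRemainder hcop 1 0
  set S := (Finset.range (p ^ a)).filter (Nat.Coprime · (p ^ a))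
  have hE : ∀ k ∈ S, χ (g ^ (e₁ + e₂ * k)) = χ g := by
    intro k hk
    have ha : e₁ + e₂ * k ≡ k [MOD p ^ a] := by simpa using h₁.add (h₂.mul_right k)
    have hb : e₁ + e₂ * k ≡ 1 [MOD m] := by simpa using h₁'.add (h₂'.mul_right k)
    refine h _ ?_ hb
    rw [hG]
    refine Nat.Coprime.mul_right ?_ ?_
    · rw [Nat.Coprime, ha.gcd_eq]
      exact (Finset.mem_filter.1 hk).2
    · rw [Nat.Coprime, hb.gcd_eq, Nat.gcd_one_left]
  have hS : S.Nonempty := by
    rcases Nat.eq_zero_or_pos a with rfl | ha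
    · exact ⟨0, by simp [S]⟩
    · exact ⟨1, Finset.mem_filter.2 ⟨Finset.mem_range.2 (Nat.one_lt_pow ha.ne' hp.one_lt),
        Nat.coprime_one_left _⟩⟩
  have hSne : (S.card : ℂ) ≠ 0 := Nat.cast_ne_zero.2 (Finset.card_pos.2 hS).ne'
  rw [show χ g = (S.card : ℂ)⁻¹ * ∑ k ∈ S, χ (g ^ (e₁ + e₂ * k)) by
    rw [Finset.sum_congr rfl hE, Finset.sum_const, nsmul_eq_mul, inv_mul_cancel_left₀ hSne]]
  refine mul_mem (inv_mem (natCast_mem K _)) ?_
  obtain ⟨d, ρ, rfl⟩ := hχ
  obtain ⟨b, μ, hμ, hroot⟩ := Char.exists_eigenbasis ρ g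
  simp only [Char.character_pow ρ g b μ hμ]
  simp only [pow_add, pow_mul]
  rw [Finset.sum_comm]
  refine sum_mem fun i _ => ?_
  rw [← Finset.mul_sum]
  have hμG : μ i ^ (p ^ a * m) = 1 := by
    obtain ⟨c, hc⟩ := orderOf_dvd_natCard g
    rw [← hG, hc, pow_mul, hroot i, one_pow]
  refine mul_mem ?_ (sum_coprime_pow_mem hp ?_)
  · obtain ⟨c, hc⟩ := (Nat.modEq_zero_iff_dvd).1 h₁
    obtain ⟨j, -, hj⟩ := (Complex.isPrimitiveRoot_exp m hm).eq_pow_of_pow_eq_one
      (show (μ i ^ e₁) ^ m = 1 by rw [hc, ← pow_mul, mul_right_comm, pow_mul, hμG, one_pow])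
    rw [← hj]
    exact pow_mem (IntermediateField.mem_adjoin_simple_self ℚ _) _
  · obtain ⟨c, hc⟩ := (Nat.modEq_zero_iff_dvd).1 h₂'
    rw [hc, ← pow_mul, mul_comm m c, mul_assoc, mul_comm m, mul_comm c, pow_mul, hμG, one_pow]

end Galois

section Blocks

variable {G : Type*} [Group G] [Finite G] {p : ℕ} {M : Ideal AlgInt}

/-- A root of unity of order prime to `p` congruent to `1` equals `1`. -/
theorem eq_one_of_memI_sub_one (hM : IsPModular p M) {z : ℂ} {n : ℕ} (hn : ¬ p ∣ n)
    (hz : z ^ n = 1) (h : MemLocalIdeal M (z - 1)) : z = 1 := by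
  by_contra hne
  have hn0 : 0 < n := Nat.pos_of_ne_zero fun h0 => hn (h0 ▸ dvd_zero p)
  have hR : MemLocalRing M z :=
    memR_of_isIntegral hM (IsIntegral.of_pow hn0 (by rw [hz]; exact isIntegral_one))
  have hpow : ∀ i : ℕ, MemLocalIdeal M (z ^ i - 1) := by
    intro i
    induction i with
    | zero => rw [pow_zero, sub_self]; exact memI_zero hM
    | succ i ih =>
      rw [show z ^ (i + 1) - 1 = z * (z ^ i - 1) + (z - 1) by ring]
      exact memI_add hM (memI_mul_left hM hR ih) h
  have hsum : ∑ i ∈ Finset.range n, z ^ i = 0 := by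
    have h1 := geom_sum_mul z n
    rw [hz, sub_self, mul_eq_zero] at h1
    exact h1.resolve_right (sub_ne_zero.2 hne)
  have h2 : MemLocalIdeal M (∑ i ∈ Finset.range n, (z ^ i - 1)) := memI_sum hM _ fun i _ => hpow i
  rw [Finset.sum_sub_distrib, hsum, Finset.sum_const, Finset.card_range, nsmul_eq_mul, mul_one,
    zero_sub] at h2
  exact not_memI_natCast hM hn (by simpa using memI_neg h2)

/-- The principal block is detected on `p`-regular classes. -/
theorem mem_principal_of_regular (hM : IsPModular p M) {χ : IrrCharacter G}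
    (h : ∀ g : G, ¬ p ∣ orderOf g →
      MemLocalIdeal M (centralChar (χ : G → ℂ) g - centralChar (fun _ => (1 : ℂ)) g)) :
    χ ∈ principalBlock M G := by
  classical
  have : Fact p.Prime := ⟨hM.1⟩
  have := Fintype.ofFinite G
  set B := principalBlock M G
  have hB : IsPBlock M B := BrauerPairs.isPBlock_principal
  have h0 : ∀ x : G, p ∣ orderOf x → blockCoeff B x = 0 := fun x hx => by
    rw [blockCoeff_eq_ofOmega]
    exact ofOmega_singular_eq_zero hM (blockInd_mem_intRing hM hB) hx
  have key : MemLocalIdeal M ((∑ x, blockCoeff B x * (χ : G → ℂ) x / (χ : G → ℂ) 1) -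
      ∑ x, blockCoeff B x * 1 / 1) := by
    rw [← Finset.sum_sub_distrib, BrauerPairs.sum_classFun (fun g x => by
      simp only [BrauerPairs.isClassFunction_blockCoeff B g x,
        Char.IsIrrCharacter.isClassFunction χ.2 g x])]
    refine memI_sum hM _ fun c _ => ?_
    by_cases hc : p ∣ orderOf (Quotient.out c)
    · rw [h0 _ hc]
      simp only [zero_mul, zero_div, sub_self, mul_zero]
      exact memI_zero hM
    · convert memI_mul_left hM (memR_blockCoeff hM hB (Quotient.out c)) (h _ hc) using 1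
      simp only [centralChar]
      ring
  by_contra hχ
  refine not_memI_one hM ?_
  have h1 : ∑ x, blockCoeff B x * (χ : G → ℂ) x / (χ : G → ℂ) 1 = 0 := by
    rw [← Finset.sum_div, ← omega_eq_sum, blockCoeff_eq_ofOmega, omega_ofOmega,
      blockInd_of_notMem hχ]
  have h2 : ∑ x, blockCoeff B x * 1 / 1 = 1 := by
    simp only [mul_one, div_one]
    exact BrauerPairs.sum_blockCoeff (BrauerPairs.oneIrr_mem_principal hM)
  rw [h1, h2, zero_sub] at key
  simpa using memI_neg key

/-- A character of the principal block is congruent to its degree at elements centralising a Sylow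
`p`-subgroup. -/
theorem memI_sub_of_mem_principal [Fact p.Prime] (hM : IsPModular p M) {χ : IrrCharacter G}
    (hχ : χ ∈ principalBlock M G) (P : Sylow p G) {c : G}
    (hc : c ∈ Subgroup.centralizer ((P : Subgroup G) : Set G)) :
    MemLocalIdeal M ((χ : G → ℂ) c - (χ : G → ℂ) 1) := by
  have hPle : (P : Subgroup G) ≤ Subgroup.centralizer ({c} : Set G) := fun x hx =>
    Subgroup.mem_centralizer_singleton_iff.2 (hc x hx)
  have hi : ¬ p ∣ (Subgroup.centralizer ({c} : Set G)).index := fun h =>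
    P.not_dvd_index (h.trans (Subgroup.index_dvd_of_le hPle))
  set i := (Subgroup.centralizer ({c} : Set G)).index
  have h1 : MemLocalIdeal M ((i : ℂ) * 1 / 1 - (i : ℂ) * (χ : G → ℂ) c / (χ : G → ℂ) 1) := hχ c
  have h2 := memI_mul_left hM (memR_mul hM (memR_natCast_inv hM hi)
    (memR_of_isIntegral hM (Char.IsCharacter.isIntegral
      (Char.IsIrrCharacter.isCharacter χ.2) 1))) h1
  refine memI_sub_comm ?_
  convert h2 using 1
  have := Char.IsIrrCharacter.apply_one_ne_zero χ.2
  have : (i : ℂ) ≠ 0 := Nat.cast_ne_zero.2 Subgroup.index_ne_zero_of_finite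
  field_simp

end Blocks

end Cfsg.Agent.PRational
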